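import Cfsg.Agent.ChevalleyStructure.TwF4.Torus
import Cfsg.Agent.ChevalleyStructure.F4Fixed
set_option linter.all false

/-!
# Elements of the twisted group ²F₄

* `n1_mem`, `n2_mem`: `n₁ = n_{p₁} n_{p₄}` and `n₂ = (n_{p₂} n_{p₃})²` lie in `twistedF4 K e`, `e > 0`;
* `T_tc_mem`: the torus elements `T (t^e, s^e, s, t)` lie in `twistedF4 K (2^m)`, `|K| = 2^(2m+1)`;
* `T_mem_iff`: these are the only torus elements in `twistedF4 K (2^m)`.
-/

set_option autoImplicit false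

namespace Cfsg.Agent.ChevalleyStructure.TwF4.TwGen

open Cfsg.Lie Cfsg.Agent.ChevalleyStructure.F4MaskBase Cfsg.Agent.ChevalleyStructure.F4Tab
  Cfsg.Agent.ChevalleyStructure.F4NTab Cfsg.Agent.ChevalleyStructure.F4Char2
  Cfsg.Agent.ChevalleyStructure.TwF4.Torus Cfsg.Agent.ChevalleyStructure.TwF4.Tables
open Cfsg.Agent.ChevalleyStructure.TwF4.Rel hiding cm

variable {K : Type*} [Field K] [CharP K 2]

theorem W_mem {e : ℕ} {w : List (ℕ × K)} (hw : w ∈ f4Words K e) : W w ∈ twistedF4 K e :=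
  Subgroup.subset_closure ⟨w, hw, coe_W w⟩

theorem pair_mem (e : ℕ) (t : K) : X 33 (t ^ e) * X 24 t ∈ twistedF4 K e := by
  have h := W_mem (K := K) (e := e) (w := f4PairWord e f4p1 f4p4 t) (Or.inl ⟨t, Or.inl rfl⟩)
  have e1 : W (f4PairWord e f4p1 f4p4 t) = X 33 (t ^ e) * X 24 t := by
    simp [f4PairWord, W_cons, f4p1, f4p4]
  rwa [e1] at h

theorem pair_mem' (e : ℕ) (t : K) : X 14 (t ^ e) * X 23 t ∈ twistedF4 K e := by
  have h := W_mem (K := K) (e := e) (w := f4PairWord e f4m1 f4m4 t) (Or.inl ⟨t, Or.inr rfl⟩)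
  have e1 : W (f4PairWord e f4m1 f4m4 t) = X 14 (t ^ e) * X 23 t := by
    simp [f4PairWord, W_cons, f4m1, f4m4]
  rwa [e1] at h

theorem b2_mem (e : ℕ) (t u : K) :
    X 27 (t ^ e) * X 25 t * X 28 (t ^ (e + 1) + u) * X 30 (u ^ (2 * e)) ∈ twistedF4 K e := by
  have h := W_mem (K := K) (e := e) (w := b2ClassWord e f4a f4b f4ab f4aab t u) (Or.inr ⟨t, u, Or.inl rfl⟩)
  have e1 : W (b2ClassWord e f4a f4b f4ab f4aab t u) =
      X 27 (t ^ e) * X 25 t * X 28 (t ^ (e + 1) + u) * X 30 (u ^ (2 * e)) := by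
    simp [b2ClassWord, W_cons, f4a, f4b, f4ab, f4aab, mul_assoc]
  rwa [e1] at h

theorem b2_mem' (e : ℕ) (t u : K) :
    X 20 (t ^ e) * X 22 t * X 19 (t ^ (e + 1) + u) * X 17 (u ^ (2 * e)) ∈ twistedF4 K e := by
  have h := W_mem (K := K) (e := e) (w := b2ClassWord e f4ma f4mb f4mab f4maab t u) (Or.inr ⟨t, u, Or.inr rfl⟩)
  have e1 : W (b2ClassWord e f4ma f4mb f4mab f4maab t u) =
      X 20 (t ^ e) * X 22 t * X 19 (t ^ (e + 1) + u) * X 17 (u ^ (2 * e)) := by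
    simp [b2ClassWord, W_cons, f4ma, f4mb, f4mab, f4maab, mul_assoc]
  rwa [e1] at h

/-- check for `n₁` -/
theorem chk_n1 : chkWord (nL 33 ++ nL 24)
    [(33, 0, 0), (24, 0, 0), (14, 0, 0), (23, 0, 0), (33, 0, 0), (24, 0, 0)] = true := by decide +kernel

/-- check for `n₂` -/
theorem chk_n2 : chkWord (nL 27 ++ nL 25 ++ nL 27 ++ nL 25)
    [(28, 0, 0), (30, 0, 0), (20, 0, 0), (22, 0, 0), (17, 0, 0), (27, 0, 0), (25, 0, 0), (28, 0, 0)] = true := by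
  decide +kernel

theorem n1_eq : n1 K = (X 33 1 * X 24 1) * (X 14 1 * X 23 1) * (X 33 1 * X 24 1) := by
  have h := W_eq_of_chkWord _ _ chk_n1 (1 : K) 1
  rw [wordK_append, W_append, W_nL, W_nL] at h
  have e1 : W (wordK (1 : K) 1 [(33, 0, 0), (24, 0, 0), (14, 0, 0), (23, 0, 0), (33, 0, 0), (24, 0, 0)]) =
      (X 33 1 * X 24 1) * (X 14 1 * X 23 1) * (X 33 1 * X 24 1) := by
    simp [wordK, W_cons, mul_assoc]
  rw [e1] at h
  exact h

theorem n2_eq : n2 K = (X 28 1 * X 30 1) * (X 20 1 * X 22 1 * X 17 1) * (X 27 1 * X 25 1 * X 28 1) := by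
  have h := W_eq_of_chkWord _ _ chk_n2 (1 : K) 1
  simp only [wordK_append, W_append, W_nL] at h
  have e1 : W (wordK (1 : K) 1 [(28, 0, 0), (30, 0, 0), (20, 0, 0), (22, 0, 0), (17, 0, 0), (27, 0, 0), (25, 0, 0),
      (28, 0, 0)]) = (X 28 1 * X 30 1) * (X 20 1 * X 22 1 * X 17 1) * (X 27 1 * X 25 1 * X 28 1) := by
    simp [wordK, W_cons, mul_assoc]
  rw [e1] at h
  exact h

/-- `n₁ ∈ ²F₄`. -/
theorem n1_mem (e : ℕ) : n1 K ∈ twistedF4 K e := by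
  have h1 := pair_mem e (1 : K)
  have h2 := pair_mem' e (1 : K)
  rw [one_pow] at h1 h2
  rw [n1_eq]
  exact mul_mem (mul_mem h1 h2) h1

/-- `n₂ ∈ ²F₄`. -/
theorem n2_mem {e : ℕ} (he : e ≠ 0) : n2 K ∈ twistedF4 K e := by
  have h1 := b2_mem e (0 : K) 1
  have h2 := b2_mem' e (1 : K) 1
  have h3 := b2_mem e (1 : K) 0
  rw [zero_pow he, zero_pow (by omega), one_pow, X_zero, X_zero, zero_add, one_mul, one_mul] at h1
  rw [one_pow, one_pow, one_pow, CharTwo.add_self_eq_zero, X_zero, mul_one] at h2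
  rw [one_pow, one_pow, zero_pow (by omega), X_zero, mul_one, add_zero] at h3
  rw [n2_eq]
  exact mul_mem (mul_mem h1 h2) h3

/-! ### the torus normalises the twisted group -/

theorem T_conj_W (c : Fin 4 → Kˣ) (w : List (ℕ × K)) (hw : ∀ p ∈ w, p.1 < 48) :
    T c * W w * (T c)⁻¹ = W (w.map fun p => (p.1, (chi c p.1 : K) * p.2)) := by
  induction w with
  | nil => simp
  | cons p w ih =>
    rw [List.map_cons, W_cons, W_cons, ← ih (fun q hq => hw q (List.mem_cons_of_mem _ hq)),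
      ← T_conj_X c (hw p List.mem_cons_self)]
    group

/-- The torus coordinates `(t^e, s^e, s, t)`. -/
def tc (e : ℕ) (s t : Kˣ) : Fin 4 → Kˣ := ![t ^ e, s ^ e, s, t]

omit [CharP K 2] in
theorem tc_mul (e : ℕ) (s t s' t' : Kˣ) : tc e s t * tc e s' t' = tc e (s * s') (t * t') := by
  funext l
  fin_cases l <;> simp [tc, mul_pow]

omit [CharP K 2] in
theorem chi_tc_24 (e : ℕ) (s t : Kˣ) : chi (tc e s t) 24 = s⁻¹ * t ^ 2 := by
  rw [chi24]; rfl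

omit [CharP K 2] in
theorem chi_tc_25 (e : ℕ) (s t : Kˣ) : chi (tc e s t) 25 = ((s ^ e) ^ 2)⁻¹ * s ^ 2 * t⁻¹ := by
  rw [chi25]; rfl

omit [CharP K 2] in
theorem chi_tc_33 (e : ℕ) (s t : Kˣ) : chi (tc e s t) 33 = (chi (tc e s t) 24) ^ e := by
  rw [chi33, chi24, mul_pow, inv_pow, ← pow_mul, mul_comm]
  show (s ^ e)⁻¹ * (t ^ e) ^ 2 = _
  rw [← pow_mul, mul_comm e 2]
  rfl

omit [CharP K 2] in
theorem chi_tc_27 {e : ℕ} (he : ∀ x : Kˣ, x ^ (2 * e * e) = x) (s t : Kˣ) :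
    chi (tc e s t) 27 = (chi (tc e s t) 25) ^ e := by
  rw [chi27, chi25, mul_pow, mul_pow, inv_pow, inv_pow]
  show (t ^ e)⁻¹ * (s ^ e) ^ 2 * s⁻¹ = (((s ^ e) ^ 2) ^ e)⁻¹ * (s ^ 2) ^ e * (t ^ e)⁻¹
  have h1 : ((s ^ e) ^ 2) ^ e = s := by
    rw [← pow_mul, ← pow_mul]
    conv_rhs => rw [← he s]
    congr 1
    ring
  have h2 : (s ^ e) ^ 2 = (s ^ 2) ^ e := by rw [← pow_mul, ← pow_mul, mul_comm]
  rw [h1, h2]
  ac_rfl

omit [CharP K 2] in
theorem chi_add_of {r s u : ℕ} (h : ca 0 u = ca 0 r + ca 0 s ∧ ca 1 u = ca 1 r + ca 1 s ∧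
    ca 2 u = ca 2 r + ca 2 s ∧ ca 3 u = ca 3 r + ca 3 s) (c : Fin 4 → Kˣ) :
    chi c u = chi c r * chi c s := by
  rw [chi_def, chi_def, chi_def, h.1, h.2.1, h.2.2.1, h.2.2.2]
  simp only [zpow_add]
  ac_rfl

omit [CharP K 2] in
theorem chi28 (c : Fin 4 → Kˣ) : chi c 28 = chi c 27 * chi c 25 := chi_add_of (by decide) c

omit [CharP K 2] in
theorem chi30 (c : Fin 4 → Kˣ) : chi c 30 = chi c 27 * chi c 28 := chi_add_of (by decide) c

omit [CharP K 2] in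
theorem chi_neg' (c : Fin 4 → Kˣ) {r r' : ℕ} (hr : r < 48) (h : ng r = r') : chi c r' = (chi c r)⁻¹ := by
  rw [← h, chi_ng c hr]

/-- the exponent condition `x ^ (2 e²) = x` on units gives it on the field -/
theorem pow_all {e : ℕ} (he0 : e ≠ 0) (he : ∀ x : Kˣ, x ^ (2 * e * e) = x) (x : K) : x ^ (2 * e * e) = x := by
  by_cases hx : x = 0
  · rw [hx, zero_pow]
    positivity
  · have := congrArg (fun u : Kˣ => (u : K)) (he (Units.mk0 x hx))
    simpa using this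

theorem conj_gen {e : ℕ} (he0 : e ≠ 0) (he : ∀ x : Kˣ, x ^ (2 * e * e) = x) (s t : Kˣ) {w : List (ℕ × K)}
    (hw : w ∈ f4Words K e) : T (tc e s t) * W w * (T (tc e s t))⁻¹ ∈ twistedF4 K e := by
  have h33 := chi_tc_33 e s t
  have h27 := chi_tc_27 he s t
  have h28 : chi (tc e s t) 28 = (chi (tc e s t) 25) ^ (e + 1) := by rw [chi28, h27, pow_succ]
  have h30 : chi (tc e s t) 30 = (chi (tc e s t) 25) ^ (2 * e + 1) := by
    rw [chi30, h27, h28, ← pow_add]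
    congr 1
    ring
  have h14 : chi (tc e s t) 14 = ((chi (tc e s t) 24)⁻¹) ^ e := by
    rw [chi_neg' _ (by norm_num : 33 < 48) (by decide : ng 33 = 14), h33, inv_pow]
  have h23 : chi (tc e s t) 23 = (chi (tc e s t) 24)⁻¹ :=
    chi_neg' _ (by norm_num : 24 < 48) (by decide : ng 24 = 23)
  have h20 : chi (tc e s t) 20 = ((chi (tc e s t) 25)⁻¹) ^ e := by
    rw [chi_neg' _ (by norm_num : 27 < 48) (by decide : ng 27 = 20), h27, inv_pow]
  have h22 : chi (tc e s t) 22 = (chi (tc e s t) 25)⁻¹ :=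
    chi_neg' _ (by norm_num : 25 < 48) (by decide : ng 25 = 22)
  have h19 : chi (tc e s t) 19 = ((chi (tc e s t) 25)⁻¹) ^ (e + 1) := by
    rw [chi_neg' _ (by norm_num : 28 < 48) (by decide : ng 28 = 19), h28, inv_pow]
  have h17 : chi (tc e s t) 17 = ((chi (tc e s t) 25)⁻¹) ^ (2 * e + 1) := by
    rw [chi_neg' _ (by norm_num : 30 < 48) (by decide : ng 30 = 17), h30, inv_pow]
  have key : ∀ b : Kˣ, ∀ u : K, ((b : K) ^ (e + 1) * u) ^ (2 * e) = (b : K) ^ (2 * e + 1) * u ^ (2 * e) := by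
    intro b u
    rw [mul_pow, ← pow_mul]
    congr 1
    calc (b : K) ^ ((e + 1) * (2 * e)) = (b : K) ^ (2 * e * e) * (b : K) ^ (2 * e) := by rw [← pow_add]; congr 1; ring
      _ = (b : K) ^ (2 * e + 1) := by rw [pow_all he0 he, pow_succ, mul_comm]
  rcases hw with ⟨x, rfl | rfl⟩ | ⟨x, y, rfl | rfl⟩
  · rw [T_conj_W _ _ (by simp [f4PairWord, f4p1, f4p4])]
    refine W_mem (Or.inl ⟨(chi (tc e s t) 24 : K) * x, Or.inl ?_⟩)
    simp only [f4PairWord, f4p1, f4p4, List.map_cons, List.map_nil, h33, Units.val_pow_eq_pow_val, mul_pow]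
  · rw [T_conj_W _ _ (by simp [f4PairWord, f4m1, f4m4])]
    refine W_mem (Or.inl ⟨(((chi (tc e s t) 24)⁻¹ : Kˣ) : K) * x, Or.inr ?_⟩)
    simp only [f4PairWord, f4m1, f4m4, List.map_cons, List.map_nil, h14, h23, Units.val_pow_eq_pow_val, mul_pow]
  · rw [T_conj_W _ _ (by simp [b2ClassWord, f4a, f4b, f4ab, f4aab])]
    refine W_mem (Or.inr ⟨(chi (tc e s t) 25 : K) * x, (chi (tc e s t) 25 : K) ^ (e + 1) * y, Or.inl ?_⟩)
    simp only [b2ClassWord, f4a, f4b, f4ab, f4aab, List.map_cons, List.map_nil, h27, h28, h30,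
      Units.val_pow_eq_pow_val, mul_pow, key]
    rw [mul_add, ← mul_pow, ← mul_pow]
  · rw [T_conj_W _ _ (by simp [b2ClassWord, f4ma, f4mb, f4mab, f4maab])]
    refine W_mem (Or.inr ⟨(((chi (tc e s t) 25)⁻¹ : Kˣ) : K) * x,
      (((chi (tc e s t) 25)⁻¹ : Kˣ) : K) ^ (e + 1) * y, Or.inr ?_⟩)
    simp only [b2ClassWord, f4ma, f4mb, f4mab, f4maab, List.map_cons, List.map_nil, h20, h22, h19, h17,
      Units.val_pow_eq_pow_val, mul_pow, key]
    rw [mul_add, ← mul_pow, ← mul_pow]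

/-- The torus elements `T (t^e, s^e, s, t)` normalise the twisted group. -/
theorem conj_mem {e : ℕ} (he0 : e ≠ 0) (he : ∀ x : Kˣ, x ^ (2 * e * e) = x) (s t : Kˣ) {g : GL chevF4.Idx K}
    (hg : g ∈ twistedF4 K e) : T (tc e s t) * g * (T (tc e s t))⁻¹ ∈ twistedF4 K e := by
  have h : twistedF4 K e ≤ (twistedF4 K e).comap (MulAut.conj (T (tc e s t))).toMonoidHom := by
    conv_lhs => unfold twistedF4 ChevalleyDatum.genSubgroup
    rw [Subgroup.closure_le]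
    rintro g ⟨w, hw, hgw⟩
    have : g = W w := Units.ext (by rw [hgw, coe_W])
    subst this
    exact conj_gen he0 he s t hw
  exact h hg

/-! ### the torus part of the twisted group -/

omit [CharP K 2] in
theorem tw_def (r : ℕ) (c : Fin 4 → Kˣ) (l : Fin 4) : tw r c l = c l * (chi c r) ^ (-co r l.val) := rfl

theorem co_tab24 : co 24 0 = 0 ∧ co 24 1 = 0 ∧ co 24 2 = 0 ∧ co 24 3 = 1 := by decide
theorem co_tab25 : co 25 0 = 0 ∧ co 25 1 = 0 ∧ co 25 2 = 1 ∧ co 25 3 = 0 := by decide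
theorem co_tab27 : co 27 0 = 0 ∧ co 27 1 = 1 ∧ co 27 2 = 0 ∧ co 27 3 = 0 := by decide
theorem co_tab33 : co 33 0 = 1 ∧ co 33 1 = 0 ∧ co 33 2 = 0 ∧ co 33 3 = 0 := by decide

omit [CharP K 2] in
theorem tw24 (a b c d : Kˣ) : tw 24 ![a, b, c, d] = ![a, b, c, c * d⁻¹] := by
  have h : chi ![a, b, c, d] 24 = c⁻¹ * d ^ 2 := by rw [chi24]; rfl
  funext l
  rw [tw_def, h]
  fin_cases l
  · show a * _ ^ (-co 24 0) = a
    rw [co_tab24.1]; simp
  · show b * _ ^ (-co 24 1) = b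
    rw [co_tab24.2.1]; simp
  · show c * _ ^ (-co 24 2) = c
    rw [co_tab24.2.2.1]; simp
  · show d * _ ^ (-co 24 3) = c * d⁻¹
    rw [co_tab24.2.2.2, zpow_neg_one, mul_inv_rev, inv_inv, pow_two, mul_inv_rev]
    calc d * (d⁻¹ * d⁻¹ * c) = d * d⁻¹ * (c * d⁻¹) := by ac_rfl
      _ = c * d⁻¹ := by rw [mul_inv_cancel, one_mul]

omit [CharP K 2] in
theorem tw33 (a b c d : Kˣ) : tw 33 ![a, b, c, d] = ![a⁻¹ * b, b, c, d] := by
  have h : chi ![a, b, c, d] 33 = a ^ 2 * b⁻¹ := by rw [chi33]; rfl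
  funext l
  rw [tw_def, h]
  fin_cases l
  · show a * _ ^ (-co 33 0) = a⁻¹ * b
    rw [co_tab33.1, zpow_neg_one, mul_inv_rev, inv_inv, pow_two, mul_inv_rev]
    calc a * (b * (a⁻¹ * a⁻¹)) = a * a⁻¹ * (a⁻¹ * b) := by ac_rfl
      _ = a⁻¹ * b := by rw [mul_inv_cancel, one_mul]
  · show b * _ ^ (-co 33 1) = b
    rw [co_tab33.2.1]; simp
  · show c * _ ^ (-co 33 2) = c
    rw [co_tab33.2.2.1]; simp
  · show d * _ ^ (-co 33 3) = d
    rw [co_tab33.2.2.2]; simp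

omit [CharP K 2] in
theorem tw25 (a b c d : Kˣ) : tw 25 ![a, b, c, d] = ![a, b, c⁻¹ * b ^ 2 * d, d] := by
  have h : chi ![a, b, c, d] 25 = (b ^ 2)⁻¹ * c ^ 2 * d⁻¹ := by rw [chi25]; rfl
  funext l
  rw [tw_def, h]
  fin_cases l
  · show a * _ ^ (-co 25 0) = a
    rw [co_tab25.1]; simp
  · show b * _ ^ (-co 25 1) = b
    rw [co_tab25.2.1]; simp
  · show c * _ ^ (-co 25 2) = c⁻¹ * b ^ 2 * d
    rw [co_tab25.2.2.1, zpow_neg_one, mul_inv_rev, inv_inv, mul_inv_rev, inv_inv, pow_two c, mul_inv_rev]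
    calc c * (d * (c⁻¹ * c⁻¹ * b ^ 2)) = c * c⁻¹ * (c⁻¹ * b ^ 2 * d) := by ac_rfl
      _ = c⁻¹ * b ^ 2 * d := by rw [mul_inv_cancel, one_mul]
  · show d * _ ^ (-co 25 3) = d
    rw [co_tab25.2.2.2]; simp

omit [CharP K 2] in
theorem tw27 (a b c d : Kˣ) : tw 27 ![a, b, c, d] = ![a, b⁻¹ * a * c, c, d] := by
  have h : chi ![a, b, c, d] 27 = a⁻¹ * b ^ 2 * c⁻¹ := by rw [chi27]; rfl
  funext l
  rw [tw_def, h]
  fin_cases l
  · show a * _ ^ (-co 27 0) = a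
    rw [co_tab27.1]; simp
  · show b * _ ^ (-co 27 1) = b⁻¹ * a * c
    rw [co_tab27.2.1, zpow_neg_one, mul_inv_rev, inv_inv, mul_inv_rev, inv_inv, pow_two b, mul_inv_rev]
    calc b * (c * (b⁻¹ * b⁻¹ * a)) = b * b⁻¹ * (b⁻¹ * a * c) := by ac_rfl
      _ = b⁻¹ * a * c := by rw [mul_inv_cancel, one_mul]
  · show c * _ ^ (-co 27 2) = c
    rw [co_tab27.2.2.1]; simp
  · show d * _ ^ (-co 27 3) = d
    rw [co_tab27.2.2.2]; simp

/-- `n₁` on the torus -/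
theorem n1_conj_T (a b c d : Kˣ) : n1 K * T ![a, b, c, d] * (n1 K)⁻¹ = T ![a⁻¹ * b, b, c, c * d⁻¹] := by
  unfold n1
  rw [mul_inv_rev]
  calc nG K 33 * nG K 24 * T ![a, b, c, d] * ((nG K 24)⁻¹ * (nG K 33)⁻¹)
      = nG K 33 * (nG K 24 * T ![a, b, c, d] * (nG K 24)⁻¹) * (nG K 33)⁻¹ := by group
    _ = _ := by rw [nG_conj_T (by norm_num), tw24, nG_conj_T (by norm_num), tw33]

/-- `n₂` on the torus -/
theorem n2_conj_T (a b c d : Kˣ) : n2 K * T ![a, b, c, d] * (n2 K)⁻¹ =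
    T ![a, b⁻¹ * a ^ 2 * d, c⁻¹ * a ^ 2 * d ^ 2, d] := by
  have e : n2 K * T ![a, b, c, d] * (n2 K)⁻¹ = nG K 27 * (nG K 25 * (nG K 27 * (nG K 25 * T ![a, b, c, d] *
      (nG K 25)⁻¹) * (nG K 27)⁻¹) * (nG K 25)⁻¹) * (nG K 27)⁻¹ := by
    unfold n2; group
  rw [e, nG_conj_T (by norm_num), tw25, nG_conj_T (by norm_num), tw27, nG_conj_T (by norm_num), tw25,
    nG_conj_T (by norm_num), tw27]
  congr 1
  have h1 : a * (b⁻¹ * a * (c⁻¹ * b ^ 2 * d)) = a ^ 2 * b * c⁻¹ * d := by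
    apply Units.ext; push_cast; field_simp
  have h2 : (c⁻¹ * b ^ 2 * d)⁻¹ * (b⁻¹ * a * (c⁻¹ * b ^ 2 * d)) ^ 2 * d = c⁻¹ * a ^ 2 * d ^ 2 := by
    apply Units.ext; push_cast; field_simp
  have h3 : (b⁻¹ * a * (c⁻¹ * b ^ 2 * d))⁻¹ * a * (c⁻¹ * a ^ 2 * d ^ 2) = b⁻¹ * a ^ 2 * d := by
    apply Units.ext; push_cast; field_simp
  rw [h2, h3]

/-- The squares of the torus elements of the `A₁ × A₁` class lie in the twisted group. -/
theorem sq_mem1 {e : ℕ} (he0 : e ≠ 0) (he : ∀ x : Kˣ, x ^ (2 * e * e) = x) (t : Kˣ) :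
    T (tc e 1 (t ^ 2)) ∈ twistedF4 K e := by
  have h1 := conj_mem he0 he (1 : Kˣ) t (n1_mem (K := K) e)
  have h2 := mul_mem h1 (inv_mem (n1_mem (K := K) e))
  have h3 : tc e 1 t = ![t ^ e, 1, 1, t] := by simp [tc]
  have h4 : n1 K * (T (tc e 1 t))⁻¹ * (n1 K)⁻¹ = T (tc e 1 t) := by
    rw [← map_inv]
    have : (tc e 1 t)⁻¹ = ![(t ^ e)⁻¹, 1, 1, t⁻¹] := by
      rw [h3]; funext l; fin_cases l <;> simp
    rw [this, n1_conj_T, h3]
    simp
  have h5 : T (tc e 1 t) * n1 K * (T (tc e 1 t))⁻¹ * (n1 K)⁻¹ = T (tc e 1 (t ^ 2)) := by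
    calc T (tc e 1 t) * n1 K * (T (tc e 1 t))⁻¹ * (n1 K)⁻¹
        = T (tc e 1 t) * (n1 K * (T (tc e 1 t))⁻¹ * (n1 K)⁻¹) := by group
      _ = T (tc e 1 (t ^ 2)) := by rw [h4, ← map_mul, tc_mul, one_mul, pow_two]
  rwa [h5] at h2

/-- The squares of the torus elements of the `B₂` class lie in the twisted group. -/
theorem sq_mem2 {e : ℕ} (he0 : e ≠ 0) (he : ∀ x : Kˣ, x ^ (2 * e * e) = x) (s : Kˣ) :
    T (tc e (s ^ 2) 1) ∈ twistedF4 K e := by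
  have h1 := conj_mem he0 he s (1 : Kˣ) (n2_mem (K := K) he0)
  have h2 := mul_mem h1 (inv_mem (n2_mem (K := K) he0))
  have h3 : tc e s 1 = ![1, s ^ e, s, 1] := by simp [tc]
  have h4 : n2 K * (T (tc e s 1))⁻¹ * (n2 K)⁻¹ = T (tc e s 1) := by
    rw [← map_inv]
    have : (tc e s 1)⁻¹ = ![1, (s ^ e)⁻¹, s⁻¹, 1] := by
      rw [h3]; funext l; fin_cases l <;> simp
    rw [this, n2_conj_T, h3]
    simp
  have h5 : T (tc e s 1) * n2 K * (T (tc e s 1))⁻¹ * (n2 K)⁻¹ = T (tc e (s ^ 2) 1) := by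
    calc T (tc e s 1) * n2 K * (T (tc e s 1))⁻¹ * (n2 K)⁻¹
        = T (tc e s 1) * (n2 K * (T (tc e s 1))⁻¹ * (n2 K)⁻¹) := by group
      _ = T (tc e (s ^ 2) 1) := by rw [h4, ← map_mul, tc_mul, one_mul, pow_two]
  rwa [h5] at h2

/-- All torus elements `T (t^e, s^e, s, t)` lie in the twisted group. -/
theorem T_tc_mem {e : ℕ} (he0 : e ≠ 0) (he : ∀ x : Kˣ, x ^ (2 * e * e) = x) (s t : Kˣ) :
    T (tc e s t) ∈ twistedF4 K e := by
  have hsq : ∀ x : Kˣ, ∃ y : Kˣ, y ^ 2 = x := fun x => ⟨x ^ (e * e), by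
    rw [← pow_mul]
    conv_rhs => rw [← he x]
    congr 1
    ring⟩
  obtain ⟨s', hs⟩ := hsq s
  obtain ⟨t', ht⟩ := hsq t
  have : tc e s t = tc e s 1 * tc e 1 t := by rw [tc_mul, one_mul, mul_one]
  rw [this, map_mul, ← hs, ← ht]
  exact mul_mem (sq_mem2 he0 he s') (sq_mem1 he0 he t')

/-! ### the upper bound -/


theorem solve {G : Type*} [CommGroup G] {e : ℕ} (he : ∀ x : G, x ^ (2 * e * e) = x) (a b c d : G)
    (h1 : a ^ 2 * b⁻¹ = (c⁻¹ * d ^ 2) ^ e) (h2 : a⁻¹ * b ^ 2 * c⁻¹ = ((b ^ 2)⁻¹ * c ^ 2 * d⁻¹) ^ e) :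
    a = d ^ e ∧ b = c ^ e := by
  set A : Additive G := Additive.ofMul a with hA
  set B : Additive G := Additive.ofMul b with hB
  set C : Additive G := Additive.ofMul c with hC
  set D : Additive G := Additive.ofMul d with hD
  have H : ∀ x : Additive G, ((2 * e * e : ℕ) : ℤ) • x = x := fun x => by
    rw [natCast_zsmul]
    exact congrArg Additive.ofMul (he x.toMul)
  have H1 : (2 : ℤ) • A - B = (e : ℤ) • (-C + (2 : ℤ) • D) := by
    have := congrArg Additive.ofMul h1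
    rw [ofMul_mul, ofMul_pow, ofMul_inv, ofMul_pow, ofMul_mul, ofMul_inv, ofMul_pow] at this
    rw [← natCast_zsmul, ← natCast_zsmul, ← natCast_zsmul] at this
    rw [sub_eq_add_neg]
    exact this
  have H2 : -A + (2 : ℤ) • B - C = (e : ℤ) • (-((2 : ℤ) • B) + (2 : ℤ) • C - D) := by
    have := congrArg Additive.ofMul h2
    simp only [ofMul_mul, ofMul_pow, ofMul_inv] at this
    rw [← natCast_zsmul, ← natCast_zsmul, ← natCast_zsmul] at this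
    rw [sub_eq_add_neg, sub_eq_add_neg]
    exact this
  have HC := H C
  have HA := H (A - (e : ℤ) • D)
  push_cast at HC HA
  have E1 : B - (e : ℤ) • C = (2 : ℤ) • (A - (e : ℤ) • D) := by
    linear_combination (norm := module) (-1 : ℤ) • H1
  have E2 : (2 + 2 * (e : ℤ)) • (B - (e : ℤ) • C) = A - (e : ℤ) • D := by
    linear_combination (norm := module) H2 - HC
  have E3 : (4 * (e : ℤ) + 3) • (A - (e : ℤ) • D) = 0 := by
    linear_combination (norm := module) E2 - (2 + 2 * (e : ℤ)) • E1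
  have E4 : A - (e : ℤ) • D = 0 := by
    linear_combination (norm := module) (8 : ℤ) • HA - (4 * (e : ℤ) - 3) • E3
  have E5 : B - (e : ℤ) • C = 0 := by rw [E1, E4, smul_zero]
  constructor
  · have := sub_eq_zero.1 E4
    rw [natCast_zsmul] at this
    exact this
  · have := sub_eq_zero.1 E5
    rw [natCast_zsmul] at this
    exact this

end Cfsg.Agent.ChevalleyStructure.TwF4.TwGen
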