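import Cfsg.Agent.ChevalleyStructure.TwF4.Rel
set_option linter.all false

/-!
Type `F₄` in characteristic 2: the 26-dimensional ideal `I` spanned by the short root vectors and
`h₁, h₂`, the two `26 × 26` blocks `Amat g` (on `I`) and `Cmat g` (on `L/I`, relabelled by `r ↔ r̄`),
the relation `Cmat (x_r(t)) = Amat (x_{r̄}(t^λ))`, and the subgroup
`Fix φ = {g | g I = I, Cmat g = φ(Amat g) entrywise}` which contains the twisted group.
-/

set_option autoImplicit false
set_option linter.unusedSectionVars false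

namespace Cfsg.Agent.ChevalleyStructure.TwF4.Fix

open Cfsg.Lie Cfsg.Agent.ChevalleyStructure.TwF4.Bits Cfsg.Agent.ChevalleyStructure.TwF4.Tables
open Cfsg.Agent.ChevalleyStructure.TwF4.Rel

/-- positions of the basis of the ideal `I`: negative short roots, `h₁, h₂`, positive short roots -/
def ioN : List ℕ := [7, 11, 12, 13, 14, 15, 16, 17, 18, 22, 23, 24, 0, 1,
  31, 32, 33, 37, 38, 39, 40, 41, 42, 43, 44, 48]
/-- positions of the corresponding basis of `L/I` -/
def roN : List ℕ := [4, 5, 6, 8, 19, 9, 20, 25, 27, 10, 21, 26, 3, 2,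
  29, 34, 45, 28, 30, 35, 46, 36, 47, 49, 50, 51]

/-- from positions to the coordinate index set -/
def ofPos (n : ℕ) : chevF4.Idx :=
  if h : n < 4 then Sum.inl (⟨n, h⟩ : Fin 4) else Sum.inr (⟨(n - 4) % 48, Nat.mod_lt _ (by decide)⟩ : Fin 48)

theorem pos_ofPos (n : ℕ) (hn : n < 52) : pos (ofPos n) = n := by
  unfold ofPos
  by_cases h : n < 4
  · rw [dif_pos h]; rfl
  · rw [dif_neg h]
    change 4 + (n - 4) % 48 = n
    omega

/-- the basis of `I` -/
def io (i : Fin 26) : chevF4.Idx := ofPos (nthN ioN i.val)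
/-- the basis of `L/I` -/
def ro (i : Fin 26) : chevF4.Idx := ofPos (nthN roN i.val)

theorem tab_lt : ((List.range 26).all fun i => decide (nthN ioN i < 52) && decide (nthN roN i < 52)) =
    true := by decide +kernel

theorem pos_io (i : Fin 26) : pos (io i) = nthN ioN i.val := by
  have h := tab_lt
  rw [List.all_eq_true] at h
  have h1 := h i.val (List.mem_range.2 i.2)
  rw [Bool.and_eq_true] at h1
  exact pos_ofPos _ (of_decide_eq_true h1.1)

theorem pos_ro (i : Fin 26) : pos (ro i) = nthN roN i.val := by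
  have h := tab_lt
  rw [List.all_eq_true] at h
  have h1 := h i.val (List.mem_range.2 i.2)
  rw [Bool.and_eq_true] at h1
  exact pos_ofPos _ (of_decide_eq_true h1.2)

/-- `Fin 26 ⊕ Fin 26 → Idx` is a bijection -/
theorem bij : Function.Bijective (Sum.elim io ro : Fin 26 ⊕ Fin 26 → chevF4.Idx) := by
  have hs : Function.Surjective (Sum.elim io ro : Fin 26 ⊕ Fin 26 → chevF4.Idx) := by
    intro k
    have h : ((List.range 52).all fun n => (List.range 26).any fun i =>
        decide (nthN ioN i = n) || decide (nthN roN i = n)) = true := by decide +kernel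
    rw [List.all_eq_true] at h
    have h1 := h (pos k) (List.mem_range.2 (posOK.lt k))
    rw [List.any_eq_true] at h1
    obtain ⟨i, hi, h2⟩ := h1
    rw [Bool.or_eq_true] at h2
    rcases h2 with h2 | h2
    · refine ⟨Sum.inl ⟨i, List.mem_range.1 hi⟩, ?_⟩
      apply posOK.inj
      rw [Sum.elim_inl, pos_io]
      exact of_decide_eq_true h2
    · refine ⟨Sum.inr ⟨i, List.mem_range.1 hi⟩, ?_⟩
      apply posOK.inj
      rw [Sum.elim_inr, pos_ro]
      exact of_decide_eq_true h2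
  have hc : Fintype.card (Fin 26 ⊕ Fin 26) = Fintype.card chevF4.Idx := by
    rw [Fintype.card_sum, Fintype.card_sum, Fintype.card_fin, Fintype.card_fin, Fintype.card_fin]
    rfl
  exact (Fintype.bijective_iff_surjective_and_card _).2 ⟨hs, hc⟩

/-- the equivalence `Fin 26 ⊕ Fin 26 ≃ Idx` -/
noncomputable def eqv : Fin 26 ⊕ Fin 26 ≃ chevF4.Idx := Equiv.ofBijective _ bij

theorem sum_idx {M : Type*} [AddCommMonoid M] (f : chevF4.Idx → M) :
    ∑ k, f k = ∑ i, f (io i) + ∑ i, f (ro i) := by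
  rw [← Equiv.sum_comp eqv, Fintype.sum_sum_type]
  rfl

theorem idx_cases (k : chevF4.Idx) : (∃ i, k = io i) ∨ (∃ i, k = ro i) := by
  obtain ⟨x, hx⟩ := bij.2 k
  rcases x with i | i
  · exact Or.inl ⟨i, hx.symm⟩
  · exact Or.inr ⟨i, hx.symm⟩

theorem io_inj : Function.Injective io := fun i j h => by
  have := @bij.1 (Sum.inl i) (Sum.inl j) h
  exact Sum.inl.inj this

theorem ro_inj : Function.Injective ro := fun i j h => by
  have := @bij.1 (Sum.inr i) (Sum.inr j) h
  exact Sum.inr.inj this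

theorem io_ne_ro (i j : Fin 26) : io i ≠ ro j := fun h => by
  have := @bij.1 (Sum.inl i) (Sum.inr j) h
  exact absurd this (by simp)

variable {K : Type*} [Field K]

/-- `g` preserves the ideal `I` -/
def Blk (g : Matrix chevF4.Idx chevF4.Idx K) : Prop := ∀ i j : Fin 26, g (ro i) (io j) = 0

/-- the block on `I` -/
def Amat (g : Matrix chevF4.Idx chevF4.Idx K) : Matrix (Fin 26) (Fin 26) K := g.submatrix io io
/-- the block on `L/I` -/
def Cmat (g : Matrix chevF4.Idx chevF4.Idx K) : Matrix (Fin 26) (Fin 26) K := g.submatrix ro ro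

theorem Amat_apply (g : Matrix chevF4.Idx chevF4.Idx K) (i j : Fin 26) :
    Amat g i j = g (io i) (io j) := rfl
theorem Cmat_apply (g : Matrix chevF4.Idx chevF4.Idx K) (i j : Fin 26) :
    Cmat g i j = g (ro i) (ro j) := rfl

theorem Blk_mul {g h : Matrix chevF4.Idx chevF4.Idx K} (hg : Blk g) (hh : Blk h) :
    Blk (g * h) := by
  intro i j
  rw [Matrix.mul_apply, sum_idx]
  simp [hg _ _, hh _ _]

theorem Blk_one : Blk (1 : Matrix chevF4.Idx chevF4.Idx K) := fun i j =>
  Matrix.one_apply_ne (fun h => io_ne_ro j i h.symm)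

theorem Amat_mul {g h : Matrix chevF4.Idx chevF4.Idx K} (hh : Blk h) :
    Amat (g * h) = Amat g * Amat h := by
  ext i j
  rw [Amat_apply, Matrix.mul_apply, sum_idx, Matrix.mul_apply]
  simp [hh _ _, Amat_apply]

theorem Cmat_mul {g h : Matrix chevF4.Idx chevF4.Idx K} (hg : Blk g) :
    Cmat (g * h) = Cmat g * Cmat h := by
  ext i j
  rw [Cmat_apply, Matrix.mul_apply, sum_idx, Matrix.mul_apply]
  simp [hg _ _, Cmat_apply]

theorem Amat_one : Amat (1 : Matrix chevF4.Idx chevF4.Idx K) = 1 := by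
  ext i j
  rw [Amat_apply, Matrix.one_apply, Matrix.one_apply]
  simp [io_inj.eq_iff]

theorem Cmat_one : Cmat (1 : Matrix chevF4.Idx chevF4.Idx K) = 1 := by
  ext i j
  rw [Cmat_apply, Matrix.one_apply, Matrix.one_apply]
  simp [ro_inj.eq_iff]

/-! ### block checks for the root elements -/

/-- packed `E_r` -/
def PE (r : ℕ) : ℕ := lmul (Els r) idN
/-- packed `F_r` -/
def PF (r : ℕ) : ℕ := lmul (Fls r) idN

section Packed
variable [CharP K 2]

theorem sem_PE (r : ℕ) : sem pos K (PE r) = semS pos K (Els r) := by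
  unfold PE
  rw [sem_lmul posOK _ (okS_Els r), sem_idN, Matrix.mul_one]

theorem sem_PF (r : ℕ) : sem pos K (PF r) = semS pos K (Fls r) := by
  unfold PF
  rw [sem_lmul posOK _ (okS_Fls r), sem_idN, Matrix.mul_one]

/-- all entries of `x_r(t)` from the packed tables -/
theorem x_entry (r : ℕ) (hr : r < 48) (t : K) (i j : chevF4.Idx) :
    chevF4.x K r t i j = (if i = j then 1 else 0) +
      t * (if (PE r).testBit (52 * pos i + pos j) then 1 else 0) +
      t ^ 2 * (if (PF r).testBit (52 * pos i + pos j) then 1 else 0) := by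
  rw [x_eq r hr, ← sem_PE, ← sem_PF, Matrix.add_apply, Matrix.add_apply, Matrix.smul_apply,
    Matrix.smul_apply, sem_apply, sem_apply, Matrix.one_apply, smul_eq_mul, smul_eq_mul]

end Packed

/-- bit at `(a, b)` -/
def bitAt (m a b : ℕ) : Bool := m.testBit (52 * a + b)

/-- `r` is a long root -/
def isLong (r : ℕ) : Bool :=
  nthN [1, 1, 1, 0, 1, 1, 1, 0, 0, 0, 0, 0, 0, 0, 0, 1, 1, 1, 0, 0, 0, 1, 1, 1, 1, 1, 1, 0, 0, 0, 1, 1, 1, 0, 0,
    0, 0, 0, 0, 0, 0, 1, 1, 1, 0, 1, 1, 1] r == 1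

/-- check of the block relations -/
def chkBlk (r : ℕ) : Bool :=
  (List.range 26).all fun i => (List.range 26).all fun j =>
    !(bitAt (PE r) (nthN roN i) (nthN ioN j)) && !(bitAt (PF r) (nthN roN i) (nthN ioN j)) &&
    (if isLong r then
      bitAt (PE r) (nthN roN i) (nthN roN j) == bitAt (PE (bar r)) (nthN ioN i) (nthN ioN j) &&
      bitAt (PF r) (nthN roN i) (nthN roN j) == bitAt (PF (bar r)) (nthN ioN i) (nthN ioN j)
    else
      !(bitAt (PE r) (nthN roN i) (nthN roN j)) &&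
      bitAt (PF r) (nthN roN i) (nthN roN j) == bitAt (PE (bar r)) (nthN ioN i) (nthN ioN j) &&
      !(bitAt (PF (bar r)) (nthN ioN i) (nthN ioN j))) &&
    (if 24 ≤ r then decide (j < i) ||
        (!(bitAt (PE r) (nthN ioN i) (nthN ioN j)) && !(bitAt (PF r) (nthN ioN i) (nthN ioN j)))
      else decide (i < j) ||
        (!(bitAt (PE r) (nthN ioN i) (nthN ioN j)) && !(bitAt (PF r) (nthN ioN i) (nthN ioN j))))

theorem chkBlk_all : ((List.range 48).all chkBlk) = true := by decide +kernel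

theorem bar_facts : ((List.range 48).all fun r => decide (bar r < 48) && decide (bar (bar r) = r) &&
    (isLong (bar r) == !(isLong r)) && (decide (24 ≤ bar r) == decide (24 ≤ r)) &&
    decide (bar (w1 r) = w1 (bar r)) && decide (bar (w2 r) = w2 (bar r)) &&
    (isLong (w1 r) == isLong r) && (isLong (w2 r) == isLong r)) = true := by
  decide +kernel

theorem bar_lt (r : ℕ) (hr : r < 48) : bar r < 48 := by
  have h := bar_facts
  rw [List.all_eq_true] at h
  have h1 := h r (List.mem_range.2 hr)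
  simp only [Bool.and_eq_true, decide_eq_true_eq] at h1
  exact h1.1.1.1.1.1.1.1

theorem isLong_bar (r : ℕ) (hr : r < 48) : isLong (bar r) = !(isLong r) := by
  have h := bar_facts
  rw [List.all_eq_true] at h
  have h1 := h r (List.mem_range.2 hr)
  simp only [Bool.and_eq_true, decide_eq_true_eq, beq_iff_eq] at h1
  exact h1.1.1.1.1.1.2

theorem pos_bar (r : ℕ) (hr : r < 48) : 24 ≤ bar r ↔ 24 ≤ r := by
  have h := bar_facts
  rw [List.all_eq_true] at h
  have h1 := h r (List.mem_range.2 hr)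
  simp only [Bool.and_eq_true, decide_eq_true_eq, beq_iff_eq] at h1
  have h2 := h1.1.1.1.1.2
  constructor
  · intro h3
    exact of_decide_eq_true (h2.symm.trans (decide_eq_true h3))
  · intro h3
    exact of_decide_eq_true (h2.trans (decide_eq_true h3))

/-- the parameter of `γ(x_r(t)) = x_{r̄}(t^λ)` -/
def lam (r : ℕ) (t : K) : K := if isLong r then t else t ^ 2

section Blocks
variable [CharP K 2]

theorem chk_ij (r : ℕ) (hr : r < 48) (i j : Fin 26) :
    (!(bitAt (PE r) (nthN roN i) (nthN ioN j)) && !(bitAt (PF r) (nthN roN i) (nthN ioN j)) &&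
    (if isLong r then
      bitAt (PE r) (nthN roN i) (nthN roN j) == bitAt (PE (bar r)) (nthN ioN i) (nthN ioN j) &&
      bitAt (PF r) (nthN roN i) (nthN roN j) == bitAt (PF (bar r)) (nthN ioN i) (nthN ioN j)
    else
      !(bitAt (PE r) (nthN roN i) (nthN roN j)) &&
      bitAt (PF r) (nthN roN i) (nthN roN j) == bitAt (PE (bar r)) (nthN ioN i) (nthN ioN j) &&
      !(bitAt (PF (bar r)) (nthN ioN i) (nthN ioN j))) &&
    (if 24 ≤ r then decide (j.val < i.val) ||
        (!(bitAt (PE r) (nthN ioN i) (nthN ioN j)) && !(bitAt (PF r) (nthN ioN i) (nthN ioN j)))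
      else decide (i.val < j.val) ||
        (!(bitAt (PE r) (nthN ioN i) (nthN ioN j)) && !(bitAt (PF r) (nthN ioN i) (nthN ioN j))))) =
      true := by
  have h := chkBlk_all
  rw [List.all_eq_true] at h
  have h1 := h r (List.mem_range.2 hr)
  unfold chkBlk at h1
  rw [List.all_eq_true] at h1
  have h2 := h1 i.val (List.mem_range.2 i.2)
  rw [List.all_eq_true] at h2
  exact h2 j.val (List.mem_range.2 j.2)

theorem x_Blk (r : ℕ) (t : K) : Blk (chevF4.x K r t) := by
  by_cases hr : r < 48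
  · intro i j
    have h := chk_ij r hr i j
    simp only [Bool.and_eq_true, Bool.not_eq_true'] at h
    have h1 : (PE r).testBit (52 * nthN roN i + nthN ioN j) = false := h.1.1.1
    have h2 : (PF r).testBit (52 * nthN roN i + nthN ioN j) = false := h.1.1.2
    rw [x_entry r hr, pos_io, pos_ro, h1, h2, if_neg (fun e => io_ne_ro j i e.symm)]
    simp
  · rw [x_ge r hr]
    exact Blk_one

theorem Cmat_x (r : ℕ) (hr : r < 48) (t : K) :
    Cmat (chevF4.x K r t) = Amat (chevF4.x K (bar r) (lam r t)) := by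
  ext i j
  have h := chk_ij r hr i j
  rw [Amat_apply, Cmat_apply, x_entry r hr, x_entry _ (bar_lt r hr), pos_io, pos_io, pos_ro, pos_ro]
  simp only [Bool.and_eq_true] at h
  have h1 := h.1.2
  simp only [ro_inj.eq_iff, io_inj.eq_iff]
  unfold lam
  by_cases hl : isLong r = true
  · rw [if_pos hl] at h1 ⊢
    simp only [Bool.and_eq_true, beq_iff_eq] at h1
    have e1 : (PE r).testBit (52 * nthN roN i + nthN roN j) =
      (PE (bar r)).testBit (52 * nthN ioN i + nthN ioN j) := h1.1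
    have e2 : (PF r).testBit (52 * nthN roN i + nthN roN j) =
      (PF (bar r)).testBit (52 * nthN ioN i + nthN ioN j) := h1.2
    rw [e1, e2]
  · rw [if_neg hl] at h1 ⊢
    simp only [Bool.and_eq_true, Bool.not_eq_true', beq_iff_eq] at h1
    have e1 : (PE r).testBit (52 * nthN roN i + nthN roN j) = false := h1.1.1
    have e2 : (PF r).testBit (52 * nthN roN i + nthN roN j) =
      (PE (bar r)).testBit (52 * nthN ioN i + nthN ioN j) := h1.1.2
    have e3 : (PF (bar r)).testBit (52 * nthN ioN i + nthN ioN j) = false := h1.2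
    rw [e1, e2, e3]
    simp

theorem Amat_x_map (φ : K →+* K) (r : ℕ) (t : K) :
    (Amat (chevF4.x K r t)).map φ = Amat (chevF4.x K r (φ t)) := by
  by_cases hr : r < 48
  · ext i j
    rw [Matrix.map_apply, Amat_apply, Amat_apply, x_entry r hr, x_entry r hr, map_add, map_add,
      map_mul, map_mul, map_pow]
    congr 1
    · congr 1
      · by_cases h : io i = io j <;> simp [h]
      · cases (PE r).testBit (52 * pos (io i) + pos (io j)) <;> simp
    · cases (PF r).testBit (52 * pos (io i) + pos (io j)) <;> simp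
  · rw [x_ge r hr, x_ge r hr, Amat_one]
    ext i j
    rw [Matrix.map_apply, Matrix.one_apply]
    by_cases h : i = j <;> simp [h]

/-- lower unitriangular -/
def LowU (M : Matrix (Fin 26) (Fin 26) K) : Prop := ∀ i j, i ≤ j → M i j = if i = j then 1 else 0
/-- upper unitriangular -/
def UpU (M : Matrix (Fin 26) (Fin 26) K) : Prop := ∀ i j, j ≤ i → M i j = if i = j then 1 else 0
/-- lower triangular -/
def LowT (M : Matrix (Fin 26) (Fin 26) K) : Prop := ∀ i j, i < j → M i j = 0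
/-- diagonal -/
def Dg (M : Matrix (Fin 26) (Fin 26) K) : Prop := ∀ i j, i ≠ j → M i j = 0

theorem Amat_x_low (r : ℕ) (hr : 24 ≤ r) (t : K) : LowU (Amat (chevF4.x K r t)) := by
  intro i j hij
  by_cases hr' : r < 48
  · have h := chk_ij r hr' i j
    simp only [Bool.and_eq_true, if_pos hr] at h
    have h1 := h.2
    have hji : ¬ (j.val < i.val) := not_lt.2 hij
    simp only [hji, decide_false, Bool.false_or, Bool.and_eq_true, Bool.not_eq_true'] at h1
    have e1 : (PE r).testBit (52 * nthN ioN i + nthN ioN j) = false := h1.1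
    have e2 : (PF r).testBit (52 * nthN ioN i + nthN ioN j) = false := h1.2
    rw [Amat_apply, x_entry r hr', pos_io, pos_io, e1, e2]
    simp [io_inj.eq_iff]
  · rw [x_ge r hr', Amat_one, Matrix.one_apply]

theorem Amat_x_up (r : ℕ) (hr : r < 24) (t : K) : UpU (Amat (chevF4.x K r t)) := by
  intro i j hij
  have hr' : r < 48 := by omega
  have h := chk_ij r hr' i j
  simp only [Bool.and_eq_true, if_neg (not_le.2 hr)] at h
  have h1 := h.2
  have hji : ¬ (i.val < j.val) := not_lt.2 hij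
  simp only [hji, decide_false, Bool.false_or, Bool.and_eq_true, Bool.not_eq_true'] at h1
  have e1 : (PE r).testBit (52 * nthN ioN i + nthN ioN j) = false := h1.1
  have e2 : (PF r).testBit (52 * nthN ioN i + nthN ioN j) = false := h1.2
  rw [Amat_apply, x_entry r hr', pos_io, pos_io, e1, e2]
  simp [io_inj.eq_iff]

theorem Cmat_x_low (r : ℕ) (hr : 24 ≤ r) (t : K) : LowU (Cmat (chevF4.x K r t)) := by
  by_cases hr' : r < 48
  · rw [Cmat_x r hr']
    exact Amat_x_low _ ((pos_bar r hr').2 hr) _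
  · intro i j _
    rw [x_ge r hr', Cmat_one, Matrix.one_apply]

theorem Cmat_x_up (r : ℕ) (hr : r < 24) (t : K) : UpU (Cmat (chevF4.x K r t)) := by
  have hr' : r < 48 := by omega
  rw [Cmat_x r hr']
  apply Amat_x_up
  have := (pos_bar r hr').not
  omega

end Blocks

/-! ### triangular matrices -/

theorem LowU_one : LowU (1 : Matrix (Fin 26) (Fin 26) K) := fun _ _ _ => Matrix.one_apply
theorem UpU_one : UpU (1 : Matrix (Fin 26) (Fin 26) K) := fun _ _ _ => Matrix.one_apply

theorem LowT_of_LowU {M : Matrix (Fin 26) (Fin 26) K} (h : LowU M) : LowT M := fun i j hij => by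
  rw [h i j hij.le, if_neg hij.ne]

theorem LowT_of_Dg {M : Matrix (Fin 26) (Fin 26) K} (h : Dg M) : LowT M := fun i j hij =>
  h i j hij.ne

theorem LowT_mul {M N : Matrix (Fin 26) (Fin 26) K} (hM : LowT M) (hN : LowT N) :
    LowT (M * N) := by
  intro i j hij
  rw [Matrix.mul_apply]
  apply Finset.sum_eq_zero
  intro k _
  by_cases h : i < k
  · rw [hM i k h, zero_mul]
  · rw [hN k j (by omega), mul_zero]

theorem LowU_mul {M N : Matrix (Fin 26) (Fin 26) K} (hM : LowU M) (hN : LowU N) :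
    LowU (M * N) := by
  intro i j hij
  rw [Matrix.mul_apply, Finset.sum_eq_single i]
  · rw [hM i i le_rfl, if_pos rfl, one_mul, hN i j hij]
  · intro k _ hk
    by_cases h : i ≤ k
    · rw [hM i k h, if_neg (fun e => hk e.symm), zero_mul]
    · rw [hN k j (by omega), if_neg (by rintro rfl; omega), mul_zero]
  · intro h; exact absurd (Finset.mem_univ _) h

theorem UpU_mul {M N : Matrix (Fin 26) (Fin 26) K} (hM : UpU M) (hN : UpU N) :
    UpU (M * N) := by
  intro i j hij
  rw [Matrix.mul_apply, Finset.sum_eq_single i]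
  · rw [hM i i le_rfl, if_pos rfl, one_mul, hN i j hij]
  · intro k _ hk
    by_cases h : k ≤ i
    · rw [hM i k h, if_neg (fun e => hk e.symm), zero_mul]
    · rw [hN k j (by omega), if_neg (by rintro rfl; omega), mul_zero]
  · intro h; exact absurd (Finset.mem_univ _) h

theorem Dg_mul {M N : Matrix (Fin 26) (Fin 26) K} (hM : Dg M) (hN : Dg N) : Dg (M * N) := by
  intro i j hij
  rw [Matrix.mul_apply]
  apply Finset.sum_eq_zero
  intro k _
  by_cases h : i = k
  · subst h
    rw [hN i j hij, mul_zero]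
  · rw [hM i k h, zero_mul]

theorem eq_one_of_LowT_UpU {M : Matrix (Fin 26) (Fin 26) K} (h1 : LowT M) (h2 : UpU M) :
    M = 1 := by
  ext i j
  rw [Matrix.one_apply]
  rcases lt_or_ge i j with h | h
  · rw [h1 i j h, if_neg h.ne]
  · exact h2 i j h

theorem eq_one_of_Dg_LowU {M : Matrix (Fin 26) (Fin 26) K} (h1 : Dg M) (h2 : LowU M) :
    M = 1 := by
  ext i j
  rw [Matrix.one_apply]
  by_cases h : i = j
  · rw [if_pos h]; subst h; rw [h2 i i le_rfl, if_pos rfl]
  · rw [h1 i j h, if_neg h]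

theorem LowT_map (φ : K →+* K) {M : Matrix (Fin 26) (Fin 26) K} (h : LowT M) : LowT (M.map φ) :=
  fun i j hij => by rw [Matrix.map_apply, h i j hij, map_zero]

theorem LowU_map (φ : K →+* K) {M : Matrix (Fin 26) (Fin 26) K} (h : LowU M) : LowU (M.map φ) :=
  fun i j hij => by
    rw [Matrix.map_apply, h i j hij]
    by_cases e : i = j <;> simp [e]

theorem UpU_map (φ : K →+* K) {M : Matrix (Fin 26) (Fin 26) K} (h : UpU M) : UpU (M.map φ) :=
  fun i j hij => by
    rw [Matrix.map_apply, h i j hij]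
    by_cases e : i = j <;> simp [e]

theorem Dg_map (φ : K →+* K) {M : Matrix (Fin 26) (Fin 26) K} (h : Dg M) : Dg (M.map φ) :=
  fun i j hij => by rw [Matrix.map_apply, h i j hij, map_zero]

/-! ### subgroups of `GL` over a finite field -/

/-- a submonoid of a finite group as a subgroup -/
def ofSubmonoid {G : Type*} [Group G] [Finite G] (S : Submonoid G) : Subgroup G where
  carrier := S
  mul_mem' := S.mul_mem
  one_mem' := S.one_mem
  inv_mem' := by
    intro x hx
    have h : x⁻¹ = x ^ (orderOf x - 1) := by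
      have h1 := orderOf_pos x
      rw [inv_eq_iff_mul_eq_one, ← pow_succ', Nat.sub_add_cancel h1, pow_orderOf_eq_one]
    rw [h]
    exact S.pow_mem hx _

theorem mem_ofSubmonoid {G : Type*} [Group G] [Finite G] (S : Submonoid G) (x : G) :
    x ∈ ofSubmonoid S ↔ x ∈ S := Iff.rfl

variable [Finite K]

instance finiteGL : Finite (GL chevF4.Idx K) := by
  haveI : Finite (Matrix chevF4.Idx chevF4.Idx K) := inferInstance
  exact Finite.of_injective (fun g : GL chevF4.Idx K => (g : Matrix chevF4.Idx chevF4.Idx K))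
    Units.val_injective

/-- elements preserving the ideal -/
def BlkG (K : Type*) [Field K] [Finite K] : Subgroup (GL chevF4.Idx K) := ofSubmonoid
  { carrier := {g | Blk (g : Matrix chevF4.Idx chevF4.Idx K)}
    mul_mem' := fun {a b} ha hb => by
      change Blk ((a * b : GL chevF4.Idx K) : Matrix chevF4.Idx chevF4.Idx K)
      rw [Units.val_mul]; exact Blk_mul ha hb
    one_mem' := Blk_one }

theorem mem_BlkG (g : GL chevF4.Idx K) : g ∈ BlkG K ↔ Blk (g : Matrix chevF4.Idx chevF4.Idx K) :=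
  Iff.rfl

/-- elements with lower triangular blocks -/
def BB (K : Type*) [Field K] [Finite K] : Subgroup (GL chevF4.Idx K) := ofSubmonoid
  { carrier := {g | Blk (g : Matrix chevF4.Idx chevF4.Idx K) ∧
      LowT (Amat (g : Matrix chevF4.Idx chevF4.Idx K)) ∧ LowT (Cmat (g : Matrix chevF4.Idx chevF4.Idx K))}
    mul_mem' := fun {a b} ha hb => by
      change Blk ((a * b : GL chevF4.Idx K) : Matrix chevF4.Idx chevF4.Idx K) ∧
        LowT (Amat ((a * b : GL chevF4.Idx K) : Matrix chevF4.Idx chevF4.Idx K)) ∧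
        LowT (Cmat ((a * b : GL chevF4.Idx K) : Matrix chevF4.Idx chevF4.Idx K))
      rw [Units.val_mul, Amat_mul hb.1, Cmat_mul ha.1]
      exact ⟨Blk_mul ha.1 hb.1, LowT_mul ha.2.1 hb.2.1, LowT_mul ha.2.2 hb.2.2⟩
    one_mem' := by
      change Blk ((1 : GL chevF4.Idx K) : Matrix chevF4.Idx chevF4.Idx K) ∧
        LowT (Amat ((1 : GL chevF4.Idx K) : Matrix chevF4.Idx chevF4.Idx K)) ∧
        LowT (Cmat ((1 : GL chevF4.Idx K) : Matrix chevF4.Idx chevF4.Idx K))
      rw [Units.val_one, Amat_one, Cmat_one]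
      exact ⟨Blk_one, LowT_of_LowU LowU_one, LowT_of_LowU LowU_one⟩ }

theorem mem_BB (g : GL chevF4.Idx K) : g ∈ BB K ↔ Blk (g : Matrix chevF4.Idx chevF4.Idx K) ∧
    LowT (Amat (g : Matrix chevF4.Idx chevF4.Idx K)) ∧
    LowT (Cmat (g : Matrix chevF4.Idx chevF4.Idx K)) := Iff.rfl

/-- elements with lower unitriangular blocks -/
def UU (K : Type*) [Field K] [Finite K] : Subgroup (GL chevF4.Idx K) := ofSubmonoid
  { carrier := {g | Blk (g : Matrix chevF4.Idx chevF4.Idx K) ∧
      LowU (Amat (g : Matrix chevF4.Idx chevF4.Idx K)) ∧ LowU (Cmat (g : Matrix chevF4.Idx chevF4.Idx K))}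
    mul_mem' := fun {a b} ha hb => by
      change Blk ((a * b : GL chevF4.Idx K) : Matrix chevF4.Idx chevF4.Idx K) ∧
        LowU (Amat ((a * b : GL chevF4.Idx K) : Matrix chevF4.Idx chevF4.Idx K)) ∧
        LowU (Cmat ((a * b : GL chevF4.Idx K) : Matrix chevF4.Idx chevF4.Idx K))
      rw [Units.val_mul, Amat_mul hb.1, Cmat_mul ha.1]
      exact ⟨Blk_mul ha.1 hb.1, LowU_mul ha.2.1 hb.2.1, LowU_mul ha.2.2 hb.2.2⟩
    one_mem' := by
      change Blk ((1 : GL chevF4.Idx K) : Matrix chevF4.Idx chevF4.Idx K) ∧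
        LowU (Amat ((1 : GL chevF4.Idx K) : Matrix chevF4.Idx chevF4.Idx K)) ∧
        LowU (Cmat ((1 : GL chevF4.Idx K) : Matrix chevF4.Idx chevF4.Idx K))
      rw [Units.val_one, Amat_one, Cmat_one]
      exact ⟨Blk_one, LowU_one, LowU_one⟩ }

theorem mem_UU (g : GL chevF4.Idx K) : g ∈ UU K ↔ Blk (g : Matrix chevF4.Idx chevF4.Idx K) ∧
    LowU (Amat (g : Matrix chevF4.Idx chevF4.Idx K)) ∧
    LowU (Cmat (g : Matrix chevF4.Idx chevF4.Idx K)) := Iff.rfl

/-- elements with upper unitriangular blocks -/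
def VV (K : Type*) [Field K] [Finite K] : Subgroup (GL chevF4.Idx K) := ofSubmonoid
  { carrier := {g | Blk (g : Matrix chevF4.Idx chevF4.Idx K) ∧
      UpU (Amat (g : Matrix chevF4.Idx chevF4.Idx K)) ∧ UpU (Cmat (g : Matrix chevF4.Idx chevF4.Idx K))}
    mul_mem' := fun {a b} ha hb => by
      change Blk ((a * b : GL chevF4.Idx K) : Matrix chevF4.Idx chevF4.Idx K) ∧
        UpU (Amat ((a * b : GL chevF4.Idx K) : Matrix chevF4.Idx chevF4.Idx K)) ∧
        UpU (Cmat ((a * b : GL chevF4.Idx K) : Matrix chevF4.Idx chevF4.Idx K))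
      rw [Units.val_mul, Amat_mul hb.1, Cmat_mul ha.1]
      exact ⟨Blk_mul ha.1 hb.1, UpU_mul ha.2.1 hb.2.1, UpU_mul ha.2.2 hb.2.2⟩
    one_mem' := by
      change Blk ((1 : GL chevF4.Idx K) : Matrix chevF4.Idx chevF4.Idx K) ∧
        UpU (Amat ((1 : GL chevF4.Idx K) : Matrix chevF4.Idx chevF4.Idx K)) ∧
        UpU (Cmat ((1 : GL chevF4.Idx K) : Matrix chevF4.Idx chevF4.Idx K))
      rw [Units.val_one, Amat_one, Cmat_one]
      exact ⟨Blk_one, UpU_one, UpU_one⟩ }

theorem mem_VV (g : GL chevF4.Idx K) : g ∈ VV K ↔ Blk (g : Matrix chevF4.Idx chevF4.Idx K) ∧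
    UpU (Amat (g : Matrix chevF4.Idx chevF4.Idx K)) ∧
    UpU (Cmat (g : Matrix chevF4.Idx chevF4.Idx K)) := Iff.rfl

/-- elements with diagonal blocks -/
def DD (K : Type*) [Field K] [Finite K] : Subgroup (GL chevF4.Idx K) := ofSubmonoid
  { carrier := {g | Blk (g : Matrix chevF4.Idx chevF4.Idx K) ∧
      Dg (Amat (g : Matrix chevF4.Idx chevF4.Idx K)) ∧ Dg (Cmat (g : Matrix chevF4.Idx chevF4.Idx K))}
    mul_mem' := fun {a b} ha hb => by
      change Blk ((a * b : GL chevF4.Idx K) : Matrix chevF4.Idx chevF4.Idx K) ∧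
        Dg (Amat ((a * b : GL chevF4.Idx K) : Matrix chevF4.Idx chevF4.Idx K)) ∧
        Dg (Cmat ((a * b : GL chevF4.Idx K) : Matrix chevF4.Idx chevF4.Idx K))
      rw [Units.val_mul, Amat_mul hb.1, Cmat_mul ha.1]
      exact ⟨Blk_mul ha.1 hb.1, Dg_mul ha.2.1 hb.2.1, Dg_mul ha.2.2 hb.2.2⟩
    one_mem' := by
      change Blk ((1 : GL chevF4.Idx K) : Matrix chevF4.Idx chevF4.Idx K) ∧
        Dg (Amat ((1 : GL chevF4.Idx K) : Matrix chevF4.Idx chevF4.Idx K)) ∧
        Dg (Cmat ((1 : GL chevF4.Idx K) : Matrix chevF4.Idx chevF4.Idx K))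
      rw [Units.val_one, Amat_one, Cmat_one]
      exact ⟨Blk_one, fun i j h => Matrix.one_apply_ne h, fun i j h => Matrix.one_apply_ne h⟩ }

theorem mem_DD (g : GL chevF4.Idx K) : g ∈ DD K ↔ Blk (g : Matrix chevF4.Idx chevF4.Idx K) ∧
    Dg (Amat (g : Matrix chevF4.Idx chevF4.Idx K)) ∧
    Dg (Cmat (g : Matrix chevF4.Idx chevF4.Idx K)) := Iff.rfl

theorem UU_le_BB : UU K ≤ BB K := fun _ h => ⟨h.1, LowT_of_LowU h.2.1, LowT_of_LowU h.2.2⟩
theorem DD_le_BB : DD K ≤ BB K := fun _ h => ⟨h.1, LowT_of_Dg h.2.1, LowT_of_Dg h.2.2⟩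

/-- The subgroup of the `g` preserving `I` with `Cmat g = φ (Amat g)` entrywise. -/
def Fix (φ : K →+* K) : Subgroup (GL chevF4.Idx K) := ofSubmonoid
  { carrier := {g | Blk (g : Matrix chevF4.Idx chevF4.Idx K) ∧
      Cmat (g : Matrix chevF4.Idx chevF4.Idx K) = (Amat (g : Matrix chevF4.Idx chevF4.Idx K)).map φ}
    mul_mem' := fun {a b} ha hb => by
      change Blk ((a * b : GL chevF4.Idx K) : Matrix chevF4.Idx chevF4.Idx K) ∧
        Cmat ((a * b : GL chevF4.Idx K) : Matrix chevF4.Idx chevF4.Idx K) =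
          (Amat ((a * b : GL chevF4.Idx K) : Matrix chevF4.Idx chevF4.Idx K)).map φ
      rw [Units.val_mul, Amat_mul hb.1, Cmat_mul ha.1, ha.2, hb.2, Matrix.map_mul]
      exact ⟨Blk_mul ha.1 hb.1, rfl⟩
    one_mem' := by
      change Blk ((1 : GL chevF4.Idx K) : Matrix chevF4.Idx chevF4.Idx K) ∧
        Cmat ((1 : GL chevF4.Idx K) : Matrix chevF4.Idx chevF4.Idx K) =
          (Amat ((1 : GL chevF4.Idx K) : Matrix chevF4.Idx chevF4.Idx K)).map φ
      rw [Units.val_one, Amat_one, Cmat_one]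
      refine ⟨Blk_one, ?_⟩
      ext i j
      rw [Matrix.map_apply, Matrix.one_apply]
      by_cases h : i = j <;> simp [h] }

theorem mem_Fix (φ : K →+* K) (g : GL chevF4.Idx K) : g ∈ Fix φ ↔
    Blk (g : Matrix chevF4.Idx chevF4.Idx K) ∧
    Cmat (g : Matrix chevF4.Idx chevF4.Idx K) = (Amat (g : Matrix chevF4.Idx chevF4.Idx K)).map φ :=
  Iff.rfl

theorem A_mul_inv {g : GL chevF4.Idx K} (hg : g ∈ BlkG K) :
    Amat (g : Matrix chevF4.Idx chevF4.Idx K) *
      Amat ((g⁻¹ : GL chevF4.Idx K) : Matrix chevF4.Idx chevF4.Idx K) = 1 := by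
  have h1 : Blk ((g⁻¹ : GL chevF4.Idx K) : Matrix chevF4.Idx chevF4.Idx K) := (BlkG K).inv_mem hg
  rw [← Amat_mul h1, ← Units.val_mul, mul_inv_cancel, Units.val_one, Amat_one]

theorem A_inv_mul {g : GL chevF4.Idx K} (hg : g ∈ BlkG K) :
    Amat ((g⁻¹ : GL chevF4.Idx K) : Matrix chevF4.Idx chevF4.Idx K) *
      Amat (g : Matrix chevF4.Idx chevF4.Idx K) = 1 := by
  have h1 : Blk (g : Matrix chevF4.Idx chevF4.Idx K) := hg
  rw [← Amat_mul h1, ← Units.val_mul, inv_mul_cancel, Units.val_one, Amat_one]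

theorem C_mul_inv {g : GL chevF4.Idx K} (hg : g ∈ BlkG K) :
    Cmat (g : Matrix chevF4.Idx chevF4.Idx K) *
      Cmat ((g⁻¹ : GL chevF4.Idx K) : Matrix chevF4.Idx chevF4.Idx K) = 1 := by
  have h1 : Blk (g : Matrix chevF4.Idx chevF4.Idx K) := hg
  rw [← Cmat_mul h1, ← Units.val_mul, mul_inv_cancel, Units.val_one, Cmat_one]

theorem map_one' (φ : K →+* K) : (1 : Matrix (Fin 26) (Fin 26) K).map φ = 1 := by
  ext i j
  rw [Matrix.map_apply, Matrix.one_apply]
  by_cases h : i = j <;> simp [h]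

/-- common part of the two splitting lemmas -/
theorem split_aux (φ : K →+* K) {b v : GL chevF4.Idx K} (hb : b ∈ BlkG K) (hv : v ∈ BlkG K)
    (h : b * v ∈ Fix φ)
    (h1 : (Amat ((b⁻¹ : GL chevF4.Idx K) : Matrix chevF4.Idx chevF4.Idx K)).map φ *
      Cmat (b : Matrix chevF4.Idx chevF4.Idx K) =
      (Amat (v : Matrix chevF4.Idx chevF4.Idx K)).map φ *
        Cmat ((v⁻¹ : GL chevF4.Idx K) : Matrix chevF4.Idx chevF4.Idx K) →
      (Amat ((b⁻¹ : GL chevF4.Idx K) : Matrix chevF4.Idx chevF4.Idx K)).map φ *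
      Cmat (b : Matrix chevF4.Idx chevF4.Idx K) = 1) : b ∈ Fix φ ∧ v ∈ Fix φ := by
  have hbB : Blk (b : Matrix chevF4.Idx chevF4.Idx K) := hb
  have hvB : Blk (v : Matrix chevF4.Idx chevF4.Idx K) := hv
  have h2 : Cmat (b : Matrix chevF4.Idx chevF4.Idx K) * Cmat (v : Matrix chevF4.Idx chevF4.Idx K) =
      (Amat (b : Matrix chevF4.Idx chevF4.Idx K)).map φ *
        (Amat (v : Matrix chevF4.Idx chevF4.Idx K)).map φ := by
    have h3 := ((mem_Fix φ _).1 h).2
    rw [Units.val_mul, Cmat_mul hbB, Amat_mul hvB, Matrix.map_mul] at h3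
    exact h3
  have h4 : (Amat ((b⁻¹ : GL chevF4.Idx K) : Matrix chevF4.Idx chevF4.Idx K)).map φ *
      (Amat (b : Matrix chevF4.Idx chevF4.Idx K)).map φ = 1 := by
    rw [← Matrix.map_mul, A_inv_mul hb, map_one']
  have h4' : (Amat (b : Matrix chevF4.Idx chevF4.Idx K)).map φ *
      (Amat ((b⁻¹ : GL chevF4.Idx K) : Matrix chevF4.Idx chevF4.Idx K)).map φ = 1 := by
    rw [← Matrix.map_mul, A_mul_inv hb, map_one']
  have h5 := C_mul_inv hv
  have h6 : (Amat ((b⁻¹ : GL chevF4.Idx K) : Matrix chevF4.Idx chevF4.Idx K)).map φ *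
      Cmat (b : Matrix chevF4.Idx chevF4.Idx K) =
      (Amat (v : Matrix chevF4.Idx chevF4.Idx K)).map φ *
        Cmat ((v⁻¹ : GL chevF4.Idx K) : Matrix chevF4.Idx chevF4.Idx K) := by
    calc _ = (Amat ((b⁻¹ : GL chevF4.Idx K) : Matrix chevF4.Idx chevF4.Idx K)).map φ *
        (Cmat (b : Matrix chevF4.Idx chevF4.Idx K) * (Cmat (v : Matrix chevF4.Idx chevF4.Idx K) *
          Cmat ((v⁻¹ : GL chevF4.Idx K) : Matrix chevF4.Idx chevF4.Idx K))) := by
          rw [h5, Matrix.mul_one]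
      _ = (Amat ((b⁻¹ : GL chevF4.Idx K) : Matrix chevF4.Idx chevF4.Idx K)).map φ *
        ((Amat (b : Matrix chevF4.Idx chevF4.Idx K)).map φ *
        (Amat (v : Matrix chevF4.Idx chevF4.Idx K)).map φ *
          Cmat ((v⁻¹ : GL chevF4.Idx K) : Matrix chevF4.Idx chevF4.Idx K)) := by
          rw [← Matrix.mul_assoc (Cmat _), h2]
      _ = _ := by rw [← Matrix.mul_assoc, ← Matrix.mul_assoc, h4, Matrix.one_mul]
  have h7 := h1 h6
  have hbF : b ∈ Fix φ := by
    refine (mem_Fix φ b).2 ⟨hbB, ?_⟩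
    calc Cmat (b : Matrix chevF4.Idx chevF4.Idx K) = (Amat (b : Matrix chevF4.Idx chevF4.Idx K)).map φ *
        ((Amat ((b⁻¹ : GL chevF4.Idx K) : Matrix chevF4.Idx chevF4.Idx K)).map φ *
          Cmat (b : Matrix chevF4.Idx chevF4.Idx K)) := by
          rw [← Matrix.mul_assoc, h4', Matrix.one_mul]
      _ = _ := by rw [h7, Matrix.mul_one]
  refine ⟨hbF, ?_⟩
  have h8 := (Fix φ).mul_mem ((Fix φ).inv_mem hbF) h
  rwa [inv_mul_cancel_left] at h8

/-- if `b` is lower triangular and `v` upper unitriangular and `b v ∈ Fix` then both are in `Fix` -/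
theorem split_BV (φ : K →+* K) {b v : GL chevF4.Idx K} (hb : b ∈ BB K) (hv : v ∈ VV K)
    (h : b * v ∈ Fix φ) : b ∈ Fix φ ∧ v ∈ Fix φ := by
  apply split_aux φ (show b ∈ BlkG K from hb.1) (show v ∈ BlkG K from hv.1) h
  intro h1
  have hb' := (BB K).inv_mem hb
  have hv' := (VV K).inv_mem hv
  apply eq_one_of_LowT_UpU
  · exact LowT_mul (LowT_map φ hb'.2.1) hb.2.2
  · rw [h1]
    exact UpU_mul (UpU_map φ hv.2.1) hv'.2.2

/-- if `u` is lower unitriangular and `h` diagonal and `u h ∈ Fix` then both are in `Fix` -/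
theorem split_UH (φ : K →+* K) {u d : GL chevF4.Idx K} (hu : u ∈ UU K) (hd : d ∈ DD K)
    (h : u * d ∈ Fix φ) : u ∈ Fix φ ∧ d ∈ Fix φ := by
  apply split_aux φ (show u ∈ BlkG K from hu.1) (show d ∈ BlkG K from hd.1) h
  intro h1
  have hu' := (UU K).inv_mem hu
  have hd' := (DD K).inv_mem hd
  apply eq_one_of_Dg_LowU
  · rw [h1]
    exact Dg_mul (Dg_map φ hd.2.1) hd'.2.2
  · exact LowU_mul (LowU_map φ hu'.2.1) hu.2.2

/-! ### words -/

section Words
variable [CharP K 2]

theorem X_mem_BlkG (r : ℕ) (t : K) : X r t ∈ BlkG K := x_Blk r t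

theorem X_mem_UU (r : ℕ) (hr : 24 ≤ r) (t : K) : X r t ∈ UU K :=
  ⟨x_Blk r t, Amat_x_low r hr t, Cmat_x_low r hr t⟩

theorem X_mem_VV (r : ℕ) (hr : r < 24) (t : K) : X r t ∈ VV K :=
  ⟨x_Blk r t, Amat_x_up r hr t, Cmat_x_up r hr t⟩

theorem W_mem_BlkG (w : List (ℕ × K)) : W w ∈ BlkG K := by
  induction w with
  | nil => exact (BlkG K).one_mem
  | cons p w ih => rw [W_cons]; exact (BlkG K).mul_mem (X_mem_BlkG _ _) ih

/-- the word `γ(w)`: `x_r(t) ↦ x_{r̄}(t^λ)` -/
def gam (w : List (ℕ × K)) : List (ℕ × K) := w.map fun p => (bar p.1, lam p.1 p.2)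

/-- the word `φ(w)` -/
def phiW (φ : K →+* K) (w : List (ℕ × K)) : List (ℕ × K) := w.map fun p => (p.1, φ p.2)

theorem Cmat_W (w : List (ℕ × K)) (hw : ∀ p ∈ w, p.1 < 48) :
    Cmat ((W w : GL chevF4.Idx K) : Matrix chevF4.Idx chevF4.Idx K) =
      Amat ((W (gam w) : GL chevF4.Idx K) : Matrix chevF4.Idx chevF4.Idx K) := by
  induction w with
  | nil => simp [gam, Amat_one, Cmat_one]
  | cons p w ih =>
    have h1 : gam (p :: w) = (bar p.1, lam p.1 p.2) :: gam w := rfl
    rw [h1, W_cons, W_cons, Units.val_mul, Units.val_mul,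
      Cmat_mul (show Blk ((X p.1 p.2 : GL chevF4.Idx K) : Matrix chevF4.Idx chevF4.Idx K) from
        x_Blk _ _),
      Amat_mul (W_mem_BlkG (gam w)), ih (fun q hq => hw q (List.mem_cons_of_mem _ hq)), coe_X, coe_X,
      Cmat_x p.1 (hw p List.mem_cons_self)]

theorem Amat_W_map (φ : K →+* K) (w : List (ℕ × K)) :
    (Amat ((W w : GL chevF4.Idx K) : Matrix chevF4.Idx chevF4.Idx K)).map φ =
      Amat ((W (phiW φ w) : GL chevF4.Idx K) : Matrix chevF4.Idx chevF4.Idx K) := by
  induction w with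
  | nil => simp [phiW, Amat_one, map_one']
  | cons p w ih =>
    have h1 : phiW φ (p :: w) = (p.1, φ p.2) :: phiW φ w := rfl
    rw [h1, W_cons, W_cons, Units.val_mul, Units.val_mul, Amat_mul (W_mem_BlkG w),
      Amat_mul (W_mem_BlkG (phiW φ w)), Matrix.map_mul, ih, coe_X, coe_X, Amat_x_map]

/-- a word is in `Fix φ` iff `γ(w)` and `φ(w)` have the same block on `I` -/
theorem W_mem_Fix_iff (φ : K →+* K) (w : List (ℕ × K)) (hw : ∀ p ∈ w, p.1 < 48) :
    W w ∈ Fix φ ↔ Amat ((W (gam w) : GL chevF4.Idx K) : Matrix chevF4.Idx chevF4.Idx K) =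
      Amat ((W (phiW φ w) : GL chevF4.Idx K) : Matrix chevF4.Idx chevF4.Idx K) := by
  rw [mem_Fix, Cmat_W w hw, Amat_W_map]
  exact ⟨fun h => h.2, fun h => ⟨W_mem_BlkG w, h⟩⟩

theorem W_mem_Fix (φ : K →+* K) (w : List (ℕ × K)) (hw : ∀ p ∈ w, p.1 < 48)
    (h : W (gam w) = W (phiW φ w)) : W w ∈ Fix φ :=
  (W_mem_Fix_iff φ w hw).2 (by rw [h])

end Words

end Cfsg.Agent.ChevalleyStructure.TwF4.Fix
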