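import Cfsg.Agent.ChevalleyStructure.F4Tab
import Cfsg.Agent.ChevalleyStructure.TwF4.Rel
set_option linter.all false

-- part: ChevalleyStructure/F4Char2
section
/-!
# Root elements of type F₄ in characteristic 2 as bit-mask matrices: `x_r(t) = 1 + t X_r + t² Y_r`
-/

set_option autoImplicit false

namespace Cfsg.Agent.ChevalleyStructure.F4Char2

open Cfsg.Lie Cfsg.Agent.ChevalleyStructure.F4MaskBase Cfsg.Agent.ChevalleyStructure.F4Tab

variable {K : Type*} [Field K] [CharP K 2]

theorem int_cast_eq (M : ℤ) : (M : K) = if M % 2 = 0 then 0 else 1 := by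
  rcases Int.emod_two_eq_zero_or_one M with h | h
  · rw [if_pos h]
    obtain ⟨k, hk⟩ := Int.dvd_of_emod_eq_zero h
    rw [hk]
    push_cast
    rw [CharTwo.two_eq_zero, zero_mul]
  · rw [if_neg (by omega)]
    have hk : M = 2 * (M / 2) + 1 := by omega
    rw [hk]
    push_cast
    rw [CharTwo.two_eq_zero, zero_mul, zero_add]

theorem two_pow_testBit_pos (u : ℕ) (i : chevF4.Idx) :
    b2 K ((2 ^ (4 + u)).testBit (pos i)) = if (∃ s : Fin chevF4.nroots, i = Sum.inr s ∧ s.val = u) then 1 else 0 := by
  rw [Nat.testBit_two_pow]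
  rcases i with i | s
  · have h1 : ¬ (4 + u = pos (Sum.inl i)) := by
      rw [pos_inl]
      have := i.2
      have h4 : chevF4.rank = 4 := rfl
      omega
    simp [b2, h1]
  · rw [pos_inr]
    by_cases h : s.val = u
    · subst h; simp [b2]
    · have : ¬ (4 + u = 4 + s.val) := by omega
      have h' : ¬ (u = s.val) := fun e => h e.symm
      simp [b2, h, h']

theorem x_of_lt {r : ℕ} (h : r < 48) (t : K) : chevF4.x K r t = chevF4.xMat K (⟨r, h⟩ : Fin chevF4.nroots) t := dif_pos h

theorem chk_of_lt {r : ℕ} (h : r < 48) : chk r = true :=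
  (List.all_eq_true.1 chk_all) r (List.mem_range.2 h)

/-- The sum of the chain terms at `(r, s)` in row `u`, from the check. -/
theorem chain_sum (r s u cx cy : ℕ) (hu : u < 48) (h : good (fl r s) cx cy = true) (t : K) :
    ((chevF4.chainCoeff r s u).map fun km => ((km.2 : ℤ) : K) * t ^ km.1).sum =
      t * b2 K (cx.testBit (4 + u)) + t ^ 2 * b2 K (cy.testBit (4 + u)) := by
  have h0 : chevF4.chainCoeff r s u = (fl r s).flatMap fun e =>
    ((e.2.toList.zipIdx).filter (fun q => q.1.1 = u)).map fun q => (q.2 + 1, q.1.2) := rfl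
  rw [h0]
  revert h
  generalize fl r s = L
  intro h
  match L, h with
  | [], h =>
    simp only [good, Bool.and_eq_true, beq_iff_eq] at h
    rw [h.1, h.2]
    simp [b2]
  | [(w, a)], h =>
    simp only [good] at h
    simp only [List.flatMap_cons, List.flatMap_nil, List.append_nil]
    revert h
    generalize a.toList = l
    intro h
    match l, h with
    | [(v, M)], h =>
      simp only [Bool.and_eq_true, beq_iff_eq] at h
      rw [h.1, h.2]
      by_cases hv : v = u
      · subst hv
        by_cases hM : M % 2 = 0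
        · simp [b2, int_cast_eq (K := K) M, hM]
        · simp [b2, int_cast_eq (K := K) M, hM, Nat.testBit_two_pow_self]
      · have hv' : ¬ (4 + v = 4 + u) := by omega
        by_cases hM : M % 2 = 0
        · simp [b2, hM, hv]
        · simp [b2, hM, hv, Nat.testBit_two_pow]
    | [(v, M), (v', N)], h =>
      simp only [Bool.and_eq_true, beq_iff_eq] at h
      rw [h.1, h.2]
      have e1 : t * b2 K (Nat.testBit (if M % 2 = 0 then 0 else 2 ^ (4 + v)) (4 + u)) =
          if v = u then (M : K) * t else 0 := by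
        rw [int_cast_eq (K := K) M]
        by_cases hv : v = u
        · subst hv
          by_cases hM : M % 2 = 0
          · simp [b2, hM]
          · simp [b2, hM, Nat.testBit_two_pow_self]
        · by_cases hM : M % 2 = 0
          · simp [b2, hM, hv]
          · simp [b2, hM, hv, Nat.testBit_two_pow]
      have e2 : t ^ 2 * b2 K (Nat.testBit (if N % 2 = 0 then 0 else 2 ^ (4 + v')) (4 + u)) =
          if v' = u then (N : K) * t ^ 2 else 0 := by
        rw [int_cast_eq (K := K) N]
        by_cases hv : v' = u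
        · subst hv
          by_cases hM : N % 2 = 0
          · simp [b2, hM]
          · simp [b2, hM, Nat.testBit_two_pow_self]
        · by_cases hM : N % 2 = 0
          · simp [b2, hM, hv]
          · simp [b2, hM, hv, Nat.testBit_two_pow]
      rw [e1, e2]
      by_cases hv : v = u
      · by_cases hv' : v' = u
        · simp [List.zipIdx, hv, hv']
        · simp [List.zipIdx, hv, hv']
      · by_cases hv' : v' = u
        · simp [List.zipIdx, hv, hv']
        · simp [List.zipIdx, hv, hv']

theorem xc_eq {r : ℕ} (j : chevF4.Idx) : xc r (pos j) = (XT.getD r []).getD (pos j) 0 := rfl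

/-- Entries of a root element of type F₄ in characteristic 2. -/
theorem x_entry {r : ℕ} (hr : r < 48) (t : K) (i j : chevF4.Idx) :
    chevF4.x K r t i j = (if i = j then 1 else 0) + t * b2 K ((xc r (pos j)).testBit (pos i)) +
      t ^ 2 * b2 K ((yc r (pos j)).testBit (pos i)) := by
  have hc := chk_of_lt hr
  unfold chk at hc
  rw [Bool.and_eq_true, List.all_eq_true, List.all_eq_true] at hc
  obtain ⟨hc1, hc2⟩ := hc
  rw [x_of_lt hr]
  rcases j with j | s
  · -- column of a coroot
    have hj : j.val < 4 := j.2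
    have h1 := hc1 j.val (List.mem_range.2 hj)
    simp only [Bool.and_eq_true, beq_iff_eq] at h1
    obtain ⟨h1, h2⟩ := h1
    rw [pos_inl, h1, h2]
    rcases i with i | u
    · show (if i = j then (1 : K) else 0) = _
      rw [pos_inl]
      have hi : i.val < 4 := i.2
      have e : Nat.testBit (if ((chevF4.cartanSR.getD j.val #[]).getD r 0) % 2 = 0 then 0 else 2 ^ (4 + r)) i.val = false := by
        split_ifs
        · exact Nat.zero_testBit _
        · rw [Nat.testBit_two_pow]
          have : ¬ (4 + r = i.val) := by omega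
          simp [this]
      rw [e]
      simp [b2]
    · show (if u = (⟨r, hr⟩ : Fin chevF4.nroots) then - (((chevF4.cartanSR.getD j.val #[]).getD r 0 : ℤ) : K) * t else 0) = _
      rw [pos_inr, int_cast_eq]
      have hne : ¬ ((Sum.inr u : chevF4.Idx) = Sum.inl j) := by simp
      rw [if_neg hne]
      by_cases hur : u = (⟨r, hr⟩ : Fin chevF4.nroots)
      · have huv : u.val = r := by rw [hur]
        rw [if_pos hur, huv]
        split_ifs
        · simp [b2]
        · simp [b2, Nat.testBit_two_pow_self, CharTwo.neg_eq]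
      · rw [if_neg hur]
        have huv : ¬ (r = u.val) := fun e => hur (Fin.ext e.symm)
        split_ifs
        · simp [b2]
        · simp [b2, Nat.testBit_two_pow, huv]
  · have hs : s.val < 48 := s.2
    have h1 := hc2 s.val (List.mem_range.2 hs)
    by_cases hsr : s.val = r
    · rw [if_pos hsr] at h1
      simp only [Bool.and_eq_true, beq_iff_eq] at h1
      obtain ⟨h1, h2⟩ := h1
      rw [pos_inr, h1, h2]
      have hsr' : s = (⟨r, hr⟩ : Fin chevF4.nroots) := Fin.ext hsr
      rcases i with i | u
      · have : chevF4.xMat K (⟨r, hr⟩ : Fin chevF4.nroots) t (Sum.inl i) (Sum.inr s) = 0 := by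
          simp only [ChevalleyDatum.xMat, Matrix.of_apply]
          rw [if_pos hsr']
        rw [this]
        simp [b2]
      · have : chevF4.xMat K (⟨r, hr⟩ : Fin chevF4.nroots) t (Sum.inr u) (Sum.inr s) = if u = (⟨r, hr⟩ : Fin chevF4.nroots) then 1 else 0 := by
          simp only [ChevalleyDatum.xMat, Matrix.of_apply]
          rw [if_pos hsr']
        rw [this]
        rw [← hsr']
        simp [b2]
    · rw [if_neg hsr] at h1
      have hsr' : ¬ (s = (⟨r, hr⟩ : Fin chevF4.nroots)) := fun e => hsr (congrArg Fin.val e)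
      by_cases hsn : s.val = chevF4.negIdx.getD r 0
      · rw [if_pos hsn] at h1
        simp only [Bool.and_eq_true, beq_iff_eq, List.all_eq_true] at h1
        obtain ⟨h1, h2⟩ := h1
        have h1 := h1 (pos i) (List.mem_range.2 (pos_lt i))
        rw [pos_inr, h1, h2]
        rcases i with i | u
        · have : chevF4.xMat K (⟨r, hr⟩ : Fin chevF4.nroots) t (Sum.inl i) (Sum.inr s) =
              (((chevF4.coroot.getD r #[]).getD i.val 0 : ℤ) : K) * t := by
            simp only [ChevalleyDatum.xMat, Matrix.of_apply]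
            rw [if_neg hsr', if_pos hsn]
          rw [this, pos_inl, int_cast_eq]
          have hi : i.val < 4 := i.2
          have e : ¬ (4 + r = i.val) := by omega
          rw [if_pos hi, Nat.testBit_two_pow]
          rw [if_neg (by simp : ¬ ((Sum.inl i : chevF4.Idx) = Sum.inr s)), zero_add]
          by_cases hh : (chevF4.coroot.getD r #[]).getD i.val 0 % 2 = 0
          · rw [if_pos hh, decide_eq_true hh, decide_eq_false e]
            simp [b2]
          · rw [if_neg hh, decide_eq_false hh, decide_eq_false e]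
            simp [b2]
        · have : chevF4.xMat K (⟨r, hr⟩ : Fin chevF4.nroots) t (Sum.inr u) (Sum.inr s) =
              if u = s then 1 else if u = (⟨r, hr⟩ : Fin chevF4.nroots) then -(t ^ 2) else 0 := by
            simp only [ChevalleyDatum.xMat, Matrix.of_apply]
            rw [if_neg hsr', if_pos hsn]
          rw [this, pos_inr]
          have e : ¬ (4 + u.val < 4) := by omega
          by_cases hus : u = s
          · subst hus
            have e' : ¬ (r = u.val) := fun e => hsr e.symm
            simp [b2, Nat.testBit_two_pow, e']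
          · by_cases hur : u = (⟨r, hr⟩ : Fin chevF4.nroots)
            · have e' : r = u.val := by rw [hur]
              rw [if_neg hus, if_pos hur]
              simp [b2, Nat.testBit_two_pow, e', hus, CharTwo.neg_eq]
            · have e' : ¬ (r = u.val) := fun e => hur (Fin.ext e.symm)
              rw [if_neg hus, if_neg hur]
              simp [b2, Nat.testBit_two_pow, e', hus]
      · rw [if_neg hsn] at h1
        rcases i with i | u
        · have : chevF4.xMat K (⟨r, hr⟩ : Fin chevF4.nroots) t (Sum.inl i) (Sum.inr s) = 0 := by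
            simp only [ChevalleyDatum.xMat, Matrix.of_apply]
            rw [if_neg hsr', if_neg hsn]
          rw [this, pos_inr, pos_inl]
          have hi : i.val < 4 := i.2
          have key : ∀ u : ℕ, Nat.testBit (2 ^ (4 + u)) i.val = false := by
            intro u
            rw [Nat.testBit_two_pow]
            have : ¬ (4 + u = i.val) := by omega
            simp [this]
          have hx : (xc r (4 + s.val)).testBit i.val = false ∧ (yc r (4 + s.val)).testBit i.val = false := by
            revert h1
            generalize fl r s.val = L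
            intro h
            match L, h with
            | [], h =>
              simp only [good, Bool.and_eq_true, beq_iff_eq] at h
              rw [h.1, h.2]
              exact ⟨Nat.zero_testBit _, Nat.zero_testBit _⟩
            | [(w, a)], h =>
              simp only [good] at h
              revert h
              generalize a.toList = l
              intro h
              match l, h with
              | [(v, M)], h =>
                simp only [Bool.and_eq_true, beq_iff_eq] at h
                rw [h.1, h.2]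
                refine ⟨?_, Nat.zero_testBit _⟩
                split_ifs
                · exact Nat.zero_testBit _
                · exact key _
              | [(v, M), (v', N)], h =>
                simp only [Bool.and_eq_true, beq_iff_eq] at h
                rw [h.1, h.2]
                constructor
                · split_ifs
                  · exact Nat.zero_testBit _
                  · exact key _
                · split_ifs
                  · exact Nat.zero_testBit _
                  · exact key _
          rw [hx.1, hx.2]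
          simp [b2]
        · have : chevF4.xMat K (⟨r, hr⟩ : Fin chevF4.nroots) t (Sum.inr u) (Sum.inr s) =
              (if u = s then 1 else 0) + ((chevF4.chainCoeff r s.val u.val).map fun km => ((km.2 : ℤ) : K) * t ^ km.1).sum := by
            simp only [ChevalleyDatum.xMat, Matrix.of_apply]
            rw [if_neg hsr', if_neg hsn]
          rw [this, chain_sum r s.val u.val _ _ u.2 h1, pos_inr, pos_inr]
          have : ((Sum.inr u : chevF4.Idx) = Sum.inr s) ↔ u = s := by simp
          simp only [this, add_assoc]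

/-- The coefficient matrices of a root element. -/
def Xm (K : Type*) [Field K] (r : ℕ) : Matrix chevF4.Idx chevF4.Idx K := toM K (XT.getD r [])
def Ym (K : Type*) [Field K] (r : ℕ) : Matrix chevF4.Idx chevF4.Idx K := toM K (YT.getD r [])

theorem x_eq {r : ℕ} (hr : r < 48) (t : K) : chevF4.x K r t = 1 + t • Xm K r + t ^ 2 • Ym K r := by
  ext i j
  rw [x_entry hr]
  simp only [Matrix.add_apply, Matrix.smul_apply, Matrix.one_apply, smul_eq_mul]
  rfl

end Cfsg.Agent.ChevalleyStructure.F4Char2
end

-- part: ChevalleyStructure/F4NTab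
section
/-!
# Tables for the monomial elements of type F₄ in characteristic 2

`nt r j`: column masks of `n_r(1)` in characteristic 2; `wt r s`: the reflection in the root `r` on root indices;
`ct r s`: the Cartan integer `A_{r,s}`; `ca i s`: the integers `A_{p_i,s}`; `co s i`: the coefficients of the coroot
`h_s`; `mt r`: an integral vector `m` with `Σ m_l A_{l,r} = 1`.
-/

set_option autoImplicit false

namespace Cfsg.Agent.ChevalleyStructure.F4NTab

open Cfsg.Lie Cfsg.Agent.ChevalleyStructure.F4MaskBase Cfsg.Agent.ChevalleyStructure.F4Tab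

/-- The reflections on root indices, row `r` in base 64. -/
def WN : List ℕ := [2832967515817728079765767551403214461087309215140819906045631948770821740481027089967, 186659938878671531580829263434621488745806709497190431568728010816427775715570235841431, 205077392107357293574687635506549567114785779713580249399886758464729271517537159271829, 47238815854521648526847292742163210802412047970992898088900496397564827545447055932073, 244619620369720613592219331270753272692231147866445890886611546654777392148948225893456, 254304547013506378237938335983069801749172252692192293514524444921736029786417683828815, 369166772645466662009628085620050609055442398310189621232781462744757786280850497274816, 134073609063838863723322678799913568122328726879371645695575180083924468748271929133022, 173591001738971775285817408780039658778832618538402824088467615026560345363730222294681, 199896753986131118138219627841232522893837799950406486873840782634701864895095396991062, 368425207352528071078102436255578168492725584112563389248894699763479750526790634665280,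 238791918916015596410495049165349909606428507346137973031155551767434123315421943177297, 369072181756675419852555332950736616927875799824637775728112879713910921848200892785664, 370868809381987386234715707390383220908670431516378623823674921451195258867543498092608, 370893496755338491239711219229502436879528617046188570080910415496161621915420986187840, 331433158665538181460194564463504873579895023078627916814509725169611077702236750225797, 339803331529278633354792904801779041730656096498423539343952760481415970018634960232516, 370523680083280154388715040888142608006316137795433832113947495820836021172908852007168, 324269567089389209886302629555676798400955979471064943344206669182252116047266667307078, 370407953308021625359481099325558421701987186905982603509010695707016296251311646318912, 370889827153288496395530733293921966025024148058963672946940068887797832325524601192512, 355356062713397334124953217061443110328348819602490875558201700925756368761655697080386, 370774100378028228564209550751140189374399927717347042129483688224969983510750016835712,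 363244361731870914983501923431353734156072931869305428649715363056779725003840952213505, 363244361731870914983501923431353734156072931869305428649715363056779725003840952213505, 370774100378028228564209550751140189374399927717347042129483688224969983510750016835712, 355356062713397334124953217061443110328348819602490875558201700925756368761655697080386, 370889827153288496395530733293921966025024148058963672946940068887797832325524601192512, 370407953308021625359481099325558421701987186905982603509010695707016296251311646318912, 324269567089389209886302629555676798400955979471064943344206669182252116047266667307078, 370523680083280154388715040888142608006316137795433832113947495820836021172908852007168, 339803331529278633354792904801779041730656096498423539343952760481415970018634960232516, 331433158665538181460194564463504873579895023078627916814509725169611077702236750225797, 370893496755338491239711219229502436879528617046188570080910415496161621915420986187840, 370868809381987386234715707390383220908670431516378623823674921451195258867543498092608,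 369072181756675419852555332950736616927875799824637775728112879713910921848200892785664, 238791918916015596410495049165349909606428507346137973031155551767434123315421943177297, 368425207352528071078102436255578168492725584112563389248894699763479750526790634665280, 199896753986131118138219627841232522893837799950406486873840782634701864895095396991062, 173591001738971775285817408780039658778832618538402824088467615026560345363730222294681, 134073609063838863723322678799913568122328726879371645695575180083924468748271929133022, 369166772645466662009628085620050609055442398310189621232781462744757786280850497274816, 254304547013506378237938335983069801749172252692192293514524444921736029786417683828815, 244619620369720613592219331270753272692231147866445890886611546654777392148948225893456, 47238815854521648526847292742163210802412047970992898088900496397564827545447055932073, 205077392107357293574687635506549567114785779713580249399886758464729271517537159271829, 186659938878671531580829263434621488745806709497190431568728010816427775715570235841431,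 2832967515817728079765767551403214461087309215140819906045631948770821740481027089967]

/-- The Cartan integers `A_{r,s} + 2`, row `r` in base 8. -/
def CN : List ℕ := [398238229297289199912765232919795846461148, 2837456690611341601882885268539632083875555, 3142945330934489705179356760043032136230683, 1519117800014946728192170344995506468, 3228697673477774064491862367169701860984475, 3534186313800922167788333858673101913339603, 5973404775114974569758453894292938150754010, 6997246430856737303788134289726069352228, 92749588974141096616293741416395794106020, 703726869620437303209236724423195898816276, 5582163792248542107149476795662868373645090, 789479212163721662521742331549865623570068, 5667916134791826466461982402789538098398882, 6278893415438122673054925385796338203109138, 6364645757981407032367430992923007927862930, 3235693400790830786848922309289082934830235, 3541182041113978890145393800792482987185363, 5980400502428031292115513836412319224599770, 796474939476778384878802273669246697415828, 5674911862104883188819042344908919172244642,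 6285889142751179395411985327915719276954898, 3626934383657263249457899407919152711939155, 6066152844971315651428019443538988949353562, 3932423023980411352754370899422552764294283, 8810859946608516156694610970662225239123097, 6677130125617611858020962426545789054063818, 9116348586931664259991082462165625291478225, 6457393827837748114036996542169058726462482, 7068371108484044320629939525175858831172738, 11946808031112149124570179596415531306001552, 6762882468160896217333468033672458778817610, 9202100929474948619303588069292295016232017, 9507589569798096722600059560795695068587145, 6378637212607520477081550877161770075554450, 6464389555150804836394056484288439800308242, 7075366835797101042986999467295239905018498, 11953803758425205846927239538534912379847312, 7161119178340385402299505074421909629772290, 12039556100968490206239745145661582104601104, 12650533381614786412832688128668382209311360, 12736285724158070772145193735795051934065152, 6769878195473952939690527975791839852663370, 9209096656788005341660648011411676090077777,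 9514585297111153444957119502915076142432905, 12743281451471127494502253677914433007910912, 9600337639654437804269625110041745867186697, 9905826279977585907566096601545145919541825, 12345044741291638309536216637164982156956232]

/-- The Cartan integers `A_{p_i,s}`, row `s`. -/
def CA : List (List ℤ) := [
  [0, 0, 0, -1],
  [0, 0, -1, 1],
  [0, -2, 1, 0],
  [-1, 0, 0, 0],
  [-2, 2, -1, 0],
  [-2, 0, 1, -1],
  [-2, 0, 0, 1],
  [1, -1, 0, 0],
  [0, 1, -1, 0],
  [0, -1, 1, -1],
  [0, -1, 0, 1],
  [-1, 1, 0, -1],
  [-1, 1, -1, 1],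
  [-1, -1, 1, 0],
  [-2, 1, 0, 0],
  [2, 0, -1, 0],
  [2, -2, 1, -1],
  [2, -2, 0, 1],
  [1, 0, 0, -1],
  [1, 0, -1, 1],
  [1, -2, 1, 0],
  [0, 2, -1, -1],
  [0, 2, -2, 1],
  [0, 0, 1, -2],
  [0, 0, -1, 2],
  [0, -2, 2, -1],
  [0, -2, 1, 1],
  [-1, 2, -1, 0],
  [-1, 0, 1, -1],
  [-1, 0, 0, 1],
  [-2, 2, 0, -1],
  [-2, 2, -1, 1],
  [-2, 0, 1, 0],
  [2, -1, 0, 0],
  [1, 1, -1, 0],
  [1, -1, 1, -1],
  [1, -1, 0, 1],
  [0, 1, 0, -1],
  [0, 1, -1, 1],
  [0, -1, 1, 0],
  [-1, 1, 0, 0],
  [2, 0, 0, -1],
  [2, 0, -1, 1],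
  [2, -2, 1, 0],
  [1, 0, 0, 0],
  [0, 2, -1, 0],
  [0, 0, 1, -1],
  [0, 0, 0, 1]]

/-- The coefficients of the coroots. -/
def CO : List (List ℤ) := [
  [-1, -2, -3, -2],
  [-1, -2, -3, -1],
  [-1, -2, -2, -1],
  [-2, -3, -4, -2],
  [-1, -1, -2, -1],
  [-1, -1, -1, -1],
  [-1, -1, -1, 0],
  [-1, -3, -4, -2],
  [-1, -2, -4, -2],
  [-1, -2, -2, -2],
  [-1, -2, -2, 0],
  [-1, -1, -2, -2],
  [-1, -1, -2, 0],
  [-1, -1, 0, 0],
  [-1, 0, 0, 0],
  [0, -1, -2, -1],
  [0, -1, -1, -1],
  [0, -1, -1, 0],
  [0, -1, -2, -2],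
  [0, -1, -2, 0],
  [0, -1, 0, 0],
  [0, 0, -1, -1],
  [0, 0, -1, 0],
  [0, 0, 0, -1],
  [0, 0, 0, 1],
  [0, 0, 1, 0],
  [0, 0, 1, 1],
  [0, 1, 0, 0],
  [0, 1, 2, 0],
  [0, 1, 2, 2],
  [0, 1, 1, 0],
  [0, 1, 1, 1],
  [0, 1, 2, 1],
  [1, 0, 0, 0],
  [1, 1, 0, 0],
  [1, 1, 2, 0],
  [1, 1, 2, 2],
  [1, 2, 2, 0],
  [1, 2, 2, 2],
  [1, 2, 4, 2],
  [1, 3, 4, 2],
  [1, 1, 1, 0],
  [1, 1, 1, 1],
  [1, 1, 2, 1],
  [2, 3, 4, 2],
  [1, 2, 2, 1],
  [1, 2, 3, 1],
  [1, 2, 3, 2]]

/-- The coroots mod 2 as masks. -/
def CM : List ℕ := [5, 13, 9, 2, 11, 15, 7, 3, 1, 1, 1, 3, 3, 3, 1, 10, 14, 6, 2, 2, 2, 12, 4, 8, 8, 4, 12, 2, 2, 2, 6, 14, 10, 1, 3, 3, 3, 1, 1, 1, 3, 7, 15, 11, 2, 9, 13, 5]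

/-- Negatives. -/
def NG : List ℕ := [47, 46, 45, 44, 43, 42, 41, 40, 39, 38, 37, 36, 35, 34, 33, 32, 31, 30, 29, 28, 27, 26, 25, 24, 23, 22, 21, 20, 19, 18, 17, 16, 15, 14, 13, 12, 11, 10, 9, 8, 7, 6, 5, 4, 3, 2, 1, 0]

/-- Integral vectors `m` with `Σ m_l A_{l,r} = 1`. -/
def MT : List (List ℤ) := [
  [0, 0, 0, -1],
  [0, 0, -1, 0],
  [0, 0, 1, 0],
  [-1, 0, 0, 0],
  [0, 0, -1, 0],
  [0, 0, 0, -1],
  [0, 0, 0, 1],
  [0, -1, 0, 0],
  [0, 0, -1, 0],
  [0, -1, 0, 0],
  [0, -1, 0, 0],
  [-1, 0, 0, 0],
  [-1, 0, 0, 0],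
  [-1, 0, 0, 0],
  [0, 1, 0, 0],
  [0, 0, -1, 0],
  [0, 0, 0, -1],
  [0, 0, 0, 1],
  [0, 0, 0, -1],
  [0, 0, -1, 0],
  [0, 0, 1, 0],
  [0, 0, -1, 0],
  [0, 0, 0, 1],
  [0, 0, 1, 0],
  [0, 0, -1, 0],
  [0, 0, 0, -1],
  [0, 0, 0, 1],
  [-1, 0, 0, 0],
  [-1, 0, 0, 0],
  [-1, 0, 0, 0],
  [0, 0, 0, -1],
  [0, 0, -1, 0],
  [0, 0, 1, 0],
  [0, -1, 0, 0],
  [0, 0, -1, 0],
  [0, -1, 0, 0],
  [0, -1, 0, 0],
  [0, 0, 0, -1],
  [0, 0, -1, 0],
  [0, -1, 0, 0],
  [-1, 0, 0, 0],
  [0, 0, 0, -1],
  [0, 0, -1, 0],
  [0, 0, 1, 0],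
  [1, 0, 0, 0],
  [0, 0, -1, 0],
  [0, 0, 0, -1],
  [0, 0, 0, 1]]


/-- `w_r(s)`. -/
def wt (r s : ℕ) : ℕ := (WN.getD r 0 / 64 ^ s) % 64
/-- the vector `m` of the root `r`. -/
def mt (r i : ℕ) : ℤ := (MT.getD r []).getD i 0
/-- The Cartan integer `A_{p_i, s}`. -/
def ca (i s : ℕ) : ℤ := (CA.getD s []).getD i 0
/-- The coefficient `c_i(r)` of the coroot. -/
def co (r i : ℕ) : ℤ := (CO.getD r []).getD i 0
/-- The index of `-r`. -/
def ng (r : ℕ) : ℕ := NG.getD r 0
/-- The Cartan integer `A_{r,s}`. -/
def ct (r s : ℕ) : ℤ := (((CN.getD r 0 / 8 ^ s) % 8 : ℕ) : ℤ) - 2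
/-- `x_r(1)` as masks. -/
def x1 (r : ℕ) : List ℕ := addL (addL oneL (XT.getD r [])) (YT.getD r [])
/-- the mask of a coroot mod 2. -/
def cm (s : ℕ) : ℕ := CM.getD s 0
/-- column `j` of `n_r(1)`. -/
def nt (r j : ℕ) : ℕ :=
  if j < 4 then (2 ^ j) ^^^ (if ca j r % 2 = 0 then 0 else cm r) else 2 ^ (4 + wt r (j - 4))
/-- column masks of `n_r(1)`. -/
def NT (r : ℕ) : List ℕ := (List.range 52).map (nt r)

/-- The tables `CA`, `CO`, `NG` agree with those of `chevF4`. -/
def chk0 (s : ℕ) : Bool :=
  (List.range 4).all (fun i => ca i s == (chevF4.cartanSR.getD i #[]).getD s 0 &&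
    co s i == (chevF4.coroot.getD s #[]).getD i 0) &&
  ng s == chevF4.negIdx.getD s 0 && decide (cm s < 16) &&
  (List.range 4).all (fun i => (cm s).testBit i == !(decide (co s i % 2 = 0)))

/-- Lengths of the tables, `X² = XY = YX = Y² = 0`. -/
def chk1 (r : ℕ) : Bool :=
  (XT.getD r []).length == 52 && (YT.getD r []).length == 52 &&
  (mulL (XT.getD r []) (XT.getD r [])).all (· == 0) && (mulL (XT.getD r []) (YT.getD r [])).all (· == 0) &&
  (mulL (YT.getD r []) (XT.getD r [])).all (· == 0) && (mulL (YT.getD r []) (YT.getD r [])).all (· == 0)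

/-- `n_r(1) = x_r(1) x_{-r}(1) x_r(1)`. -/
def chk2 (r : ℕ) : Bool := NT r == mulL (mulL (x1 r) (x1 (ng r))) (x1 r)

/-- `w_r` is an involution. -/
def chk3 (r : ℕ) : Bool :=
  (List.range 48).all (fun s => decide (wt r s < 48) && wt r (wt r s) == s)

/-- `v_i = s_i - a r_i` on lists. -/
def lin (a : ℤ) : List ℤ → List ℤ → List ℤ → Bool
  | v :: vs, s :: ss, r :: rs => (v == s - a * r) && lin a vs ss rs
  | [], [], [] => true
  | _, _, _ => false

/-- `n_r(1)` maps `h_s` to `h_{w_r(s)}` mod 2, and the reflection formulas. -/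
def chk4 (r : ℕ) : Bool :=
  (List.range 48).all fun s => sel ((NT r).take 4) (cm s) == cm (wt r s) &&
    lin (ct r s) (CA.getD (wt r s) []) (CA.getD s []) (CA.getD r []) &&
    lin (ct s r) (CO.getD (wt r s) []) (CO.getD s []) (CO.getD r [])

/-- `A_{r,s} = Σ c_i(r) A_{i,s}`. -/
def chk4' (r : ℕ) : Bool :=
  (List.range 48).all fun s => ct r s == co r 0 * ca 0 s + co r 1 * ca 1 s + co r 2 * ca 2 s + co r 3 * ca 3 s

/-- `Σ m_l A_{l,r} = 1`, `A_{l,-r} = -A_{l,r}`. -/
def chk5 (r : ℕ) : Bool :=
  mt r 0 * ca 0 r + mt r 1 * ca 1 r + mt r 2 * ca 2 r + mt r 3 * ca 3 r == 1 && decide (ng r < 48) &&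
  ct r r == 2 && ng (ng r) == r &&
  (List.range 4).all (fun l => ca l (ng r) == - ca l r)

/-- Weights: bit `(i, j)` of `X_r` (`Y_r`) set implies that the weight of `i` is `r` plus (`2r` plus) the weight of `j`. -/
def wgt (j : ℕ) : List ℤ := if j < 4 then [0, 0, 0, 0] else CA.getD (j - 4) []

/-- check weights on one column of `X_r` or `Y_r`: mask `m`, multiplicity `k`: either `m < 16`, or `m = 2 ^ i`. -/
def chkw (k : ℤ) (r j m : ℕ) : Bool :=
  m == 0 || (decide (m < 16) && lin k [0, 0, 0, 0] (wgt j) (CA.getD (ng r) [])) ||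
    (m == 2 ^ (Nat.log2 m) && decide (16 ≤ m) && lin k (wgt (Nat.log2 m)) (wgt j) (CA.getD (ng r) []))

/-- check weights of `X_r` and `Y_r`. -/
def chk6 (r : ℕ) : Bool := (List.range 52).all fun j => chkw 1 r j (xc r j) && chkw 2 r j (yc r j)

set_option maxRecDepth 100000 in
theorem chk0_all : (List.range 48).all chk0 = true := by decide +kernel
set_option maxRecDepth 100000 in
theorem chk1_all : (List.range 48).all chk1 = true := by decide +kernel
set_option maxRecDepth 100000 in
theorem chk2_all : (List.range 48).all chk2 = true := by decide +kernel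
set_option maxRecDepth 100000 in
theorem chk3_all : (List.range 48).all chk3 = true := by decide +kernel
set_option maxRecDepth 100000 in
theorem chk4_all : (List.range 48).all chk4 = true := by decide +kernel
set_option maxRecDepth 100000 in
theorem chk4'_all : (List.range 48).all chk4' = true := by decide +kernel
set_option maxRecDepth 100000 in
theorem chk5_all : (List.range 48).all chk5 = true := by decide +kernel
set_option maxRecDepth 100000 in
theorem chk6_all : (List.range 48).all chk6 = true := by decide +kernel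

end Cfsg.Agent.ChevalleyStructure.F4NTab
end

-- part: ChevalleyStructure/TwF4/Torus
section
/-!
# The torus of F₄ and the matrices of the elements `n_r(1)` in characteristic 2

* `T c` (`c : Fin 4 → Kˣ`): the diagonal element acting on `e_s` by `chi c s = ∏ c_i ^ A_{p_i, s}`;
* `T_conj_X`: `T c * X r t * (T c)⁻¹ = X r (chi c r * t)`;
* `coe_nG`: the matrix of `n_r(1)` for every root `r`, entries `nG_inr`, `nG_inl_inr`;
* `nG_conj_T`: `n_r(1)` normalises the torus;
* `diagonal_eq_range`: the diagonal subgroup is the range of `T`.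
-/

set_option autoImplicit false

namespace Cfsg.Agent.ChevalleyStructure.TwF4.Torus

open Cfsg.Lie Cfsg.Agent.ChevalleyStructure.F4MaskBase Cfsg.Agent.ChevalleyStructure.F4Tab
  Cfsg.Agent.ChevalleyStructure.F4NTab Cfsg.Agent.ChevalleyStructure.F4Char2
open Cfsg.Agent.ChevalleyStructure.TwF4.Rel hiding cm

/-! ### facts read off the kernel checks -/

theorem all_of {p : ℕ → Bool} {n : ℕ} (h : (List.range n).all p = true) {r : ℕ} (hr : r < n) : p r = true :=
  (List.all_eq_true.1 h) r (List.mem_range.2 hr)

theorem ca_eq {i s : ℕ} (hi : i < 4) (hs : s < 48) : chevF4.cartan i s = ca i s := by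
  have h := all_of chk0_all hs
  simp only [chk0, Bool.and_eq_true, List.all_eq_true, beq_iff_eq] at h
  exact (h.1.1.1 i (List.mem_range.2 hi)).1.symm

theorem co_eq {i s : ℕ} (hi : i < 4) (hs : s < 48) : (chevF4.coroot.getD s #[]).getD i 0 = co s i := by
  have h := all_of chk0_all hs
  simp only [chk0, Bool.and_eq_true, List.all_eq_true, beq_iff_eq] at h
  exact (h.1.1.1 i (List.mem_range.2 hi)).2.symm

theorem ng_eq {s : ℕ} (hs : s < 48) : chevF4.neg s = ng s := by
  have h := all_of chk0_all hs
  simp only [chk0, Bool.and_eq_true, List.all_eq_true, beq_iff_eq] at h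
  exact h.1.1.2.symm

theorem cm_lt {s : ℕ} (hs : s < 48) : cm s < 16 := by
  have h := all_of chk0_all hs
  simp only [chk0, Bool.and_eq_true, List.all_eq_true, beq_iff_eq, decide_eq_true_eq] at h
  exact h.1.2

theorem cm_testBit {i s : ℕ} (hi : i < 4) (hs : s < 48) : (cm s).testBit i = !(decide (co s i % 2 = 0)) := by
  have h := all_of chk0_all hs
  simp only [chk0, Bool.and_eq_true, List.all_eq_true, beq_iff_eq] at h
  exact h.2 i (List.mem_range.2 hi)

theorem len_XT {r : ℕ} (hr : r < 48) : (XT.getD r []).length = 52 := by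
  have h := all_of chk1_all hr
  simp only [chk1, Bool.and_eq_true, beq_iff_eq] at h
  exact h.1.1.1.1.1

theorem len_YT {r : ℕ} (hr : r < 48) : (YT.getD r []).length = 52 := by
  have h := all_of chk1_all hr
  simp only [chk1, Bool.and_eq_true, beq_iff_eq] at h
  exact h.1.1.1.1.2

theorem NT_eq {r : ℕ} (hr : r < 48) : NT r = mulL (mulL (x1 r) (x1 (ng r))) (x1 r) := by
  have h := all_of chk2_all hr
  simp only [chk2, beq_iff_eq] at h
  exact h

theorem wt_lt {r s : ℕ} (hr : r < 48) (hs : s < 48) : wt r s < 48 := by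
  have h := all_of chk3_all hr
  simp only [chk3, Bool.and_eq_true, List.all_eq_true, beq_iff_eq, decide_eq_true_eq] at h
  exact (h s (List.mem_range.2 hs)).1

theorem wt_wt {r s : ℕ} (hr : r < 48) (hs : s < 48) : wt r (wt r s) = s := by
  have h := all_of chk3_all hr
  simp only [chk3, Bool.and_eq_true, List.all_eq_true, beq_iff_eq, decide_eq_true_eq] at h
  exact (h s (List.mem_range.2 hs)).2

theorem lin_getD {a : ℤ} {v s r : List ℤ} (h : lin a v s r = true) (i : ℕ) :
    v.getD i 0 = s.getD i 0 - a * r.getD i 0 := by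
  induction v generalizing s r i with
  | nil =>
    match s, r, h with
    | [], [], _ => simp
  | cons x v ih =>
    match s, r, h with
    | y :: s, z :: r, h =>
      simp only [lin, Bool.and_eq_true, beq_iff_eq] at h
      cases i with
      | zero => simpa using h.1
      | succ i => simpa using ih h.2 i

theorem sel_cm {r s : ℕ} (hr : r < 48) (hs : s < 48) : sel ((NT r).take 4) (cm s) = cm (wt r s) := by
  have h := all_of chk4_all hr
  simp only [chk4, Bool.and_eq_true, List.all_eq_true, beq_iff_eq] at h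
  exact (h s (List.mem_range.2 hs)).1.1

theorem ca_wt {r s : ℕ} (hr : r < 48) (hs : s < 48) (l : ℕ) : ca l (wt r s) = ca l s - ct r s * ca l r := by
  have h := all_of chk4_all hr
  simp only [chk4, Bool.and_eq_true, List.all_eq_true, beq_iff_eq] at h
  exact lin_getD (h s (List.mem_range.2 hs)).1.2 l

theorem co_wt {r s : ℕ} (hr : r < 48) (hs : s < 48) (l : ℕ) : co (wt r s) l = co s l - ct s r * co r l := by
  have h := all_of chk4_all hr
  simp only [chk4, Bool.and_eq_true, List.all_eq_true, beq_iff_eq] at h
  exact lin_getD (h s (List.mem_range.2 hs)).2 l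

theorem ct_eq {r s : ℕ} (hr : r < 48) (hs : s < 48) :
    ct r s = co r 0 * ca 0 s + co r 1 * ca 1 s + co r 2 * ca 2 s + co r 3 * ca 3 s := by
  have h := all_of chk4'_all hr
  simp only [chk4', List.all_eq_true, beq_iff_eq] at h
  exact h s (List.mem_range.2 hs)

theorem mt_sum {r : ℕ} (hr : r < 48) :
    mt r 0 * ca 0 r + mt r 1 * ca 1 r + mt r 2 * ca 2 r + mt r 3 * ca 3 r = 1 := by
  have h := all_of chk5_all hr
  simp only [chk5, Bool.and_eq_true, List.all_eq_true, beq_iff_eq, decide_eq_true_eq] at h
  exact h.1.1.1.1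

theorem ng_lt {r : ℕ} (hr : r < 48) : ng r < 48 := by
  have h := all_of chk5_all hr
  simp only [chk5, Bool.and_eq_true, List.all_eq_true, beq_iff_eq, decide_eq_true_eq] at h
  exact h.1.1.1.2

theorem ct_self {r : ℕ} (hr : r < 48) : ct r r = 2 := by
  have h := all_of chk5_all hr
  simp only [chk5, Bool.and_eq_true, List.all_eq_true, beq_iff_eq, decide_eq_true_eq] at h
  exact h.1.1.2

theorem ng_ng {r : ℕ} (hr : r < 48) : ng (ng r) = r := by
  have h := all_of chk5_all hr
  simp only [chk5, Bool.and_eq_true, List.all_eq_true, beq_iff_eq, decide_eq_true_eq] at h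
  exact h.1.2

theorem ca_ng {r : ℕ} (hr : r < 48) {l : ℕ} (hl : l < 4) : ca l (ng r) = - ca l r := by
  have h := all_of chk5_all hr
  simp only [chk5, Bool.and_eq_true, List.all_eq_true, beq_iff_eq, decide_eq_true_eq] at h
  exact h.2 l (List.mem_range.2 hl)

theorem ng_eq_sub {r : ℕ} (hr : r < 48) : ng r = 47 - r := by
  have h : ((List.range 48).all fun r => ng r == 47 - r) = true := by decide +kernel
  have := all_of h hr
  simpa using this

/-! ### the torus -/

variable {K : Type*} [Field K]

/-- The character of the torus element with coordinates `c` on a vector of Cartan integers. -/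
def chiL (c : Fin 4 → Kˣ) (v : List ℤ) : Kˣ :=
  c 0 ^ v.getD 0 0 * c 1 ^ v.getD 1 0 * c 2 ^ v.getD 2 0 * c 3 ^ v.getD 3 0

/-- The value `∏ c_i ^ A_{p_i, s}` by which the torus element `T c` acts on `e_s`. -/
def chi (c : Fin 4 → Kˣ) (s : ℕ) : Kˣ := c 0 ^ ca 0 s * c 1 ^ ca 1 s * c 2 ^ ca 2 s * c 3 ^ ca 3 s

theorem chi_def (c : Fin 4 → Kˣ) (s : ℕ) :
    chi c s = c 0 ^ ca 0 s * c 1 ^ ca 1 s * c 2 ^ ca 2 s * c 3 ^ ca 3 s := rfl

theorem chiL_CA (c : Fin 4 → Kˣ) (s : ℕ) : chiL c (CA.getD s []) = chi c s := rfl

theorem chi_one (s : ℕ) : chi (1 : Fin 4 → Kˣ) s = 1 := by simp [chi]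

theorem chi_mul (c d : Fin 4 → Kˣ) (s : ℕ) : chi (c * d) s = chi c s * chi d s := by
  simp only [chi, Pi.mul_apply, mul_zpow]
  ac_rfl

theorem chi_inv (c : Fin 4 → Kˣ) (s : ℕ) : chi c⁻¹ s = (chi c s)⁻¹ := by
  rw [eq_inv_iff_mul_eq_one, ← chi_mul, inv_mul_cancel, chi_one]

theorem chiL_lin {a : ℤ} {v s r : List ℤ} (h : lin a v s r = true) (c : Fin 4 → Kˣ) :
    chiL c v = chiL c s * (chiL c r) ^ (-a) := by
  have h' : ∀ i, v.getD i 0 = s.getD i 0 + r.getD i 0 * (-a) := fun i => by
    rw [lin_getD h i]; ring
  simp only [chiL, h', zpow_add, zpow_mul, mul_zpow]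
  ac_rfl

/-- The character of `T c` on a basis vector. -/
def chiIdx (c : Fin 4 → Kˣ) (j : chevF4.Idx) : Kˣ := chiL c (wgt (pos j))

theorem chiIdx_inl (c : Fin 4 → Kˣ) (i : Fin chevF4.rank) : chiIdx c (Sum.inl i) = 1 := by
  have hi : i.val < 4 := i.2
  unfold chiIdx wgt
  rw [pos_inl, if_pos hi]
  simp [chiL]

theorem chiIdx_inr (c : Fin 4 → Kˣ) (s : Fin chevF4.nroots) : chiIdx c (Sum.inr s) = chi c s.val := by
  unfold chiIdx wgt
  rw [pos_inr, if_neg (by omega), Nat.add_sub_cancel_left]
  rfl

theorem chiIdx_one (j : chevF4.Idx) : chiIdx (1 : Fin 4 → Kˣ) j = 1 := by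
  rcases j with i | s
  · exact chiIdx_inl _ i
  · rw [chiIdx_inr, chi_one]

theorem chiIdx_mul (c d : Fin 4 → Kˣ) (j : chevF4.Idx) : chiIdx (c * d) j = chiIdx c j * chiIdx d j := by
  rcases j with i | s
  · rw [chiIdx_inl, chiIdx_inl, chiIdx_inl, mul_one]
  · rw [chiIdx_inr, chiIdx_inr, chiIdx_inr, chi_mul]

/-- The torus element with coordinates `c`. -/
def T : (Fin 4 → Kˣ) →* GL chevF4.Idx K where
  toFun c :=
    { val := Matrix.diagonal fun j => (chiIdx c j : K)
      inv := Matrix.diagonal fun j => (((chiIdx c j)⁻¹ : Kˣ) : K)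
      val_inv := by
        rw [Matrix.diagonal_mul_diagonal]
        simp
      inv_val := by
        rw [Matrix.diagonal_mul_diagonal]
        simp }
  map_one' := by
    apply Units.ext
    show Matrix.diagonal _ = _
    simp [chiIdx_one]
  map_mul' c d := by
    apply Units.ext
    show Matrix.diagonal _ = Matrix.diagonal _ * Matrix.diagonal _
    rw [Matrix.diagonal_mul_diagonal]
    simp [chiIdx_mul]

theorem coe_T (c : Fin 4 → Kˣ) :
    ((T c : GL chevF4.Idx K) : Matrix chevF4.Idx chevF4.Idx K) = Matrix.diagonal fun j => (chiIdx c j : K) := rfl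

theorem T_inr (c : Fin 4 → Kˣ) (s : Fin chevF4.nroots) :
    ((T c : GL chevF4.Idx K) : Matrix chevF4.Idx chevF4.Idx K) (Sum.inr s) (Sum.inr s) = (chi c s.val : K) := by
  rw [coe_T, Matrix.diagonal_apply_eq, chiIdx_inr]

theorem chi_ng (c : Fin 4 → Kˣ) {r : ℕ} (hr : r < 48) : chi c (ng r) = (chi c r)⁻¹ := by
  unfold chi
  rw [ca_ng hr (by omega), ca_ng hr (by omega), ca_ng hr (by omega), ca_ng hr (by omega)]
  simp only [zpow_neg, mul_inv]

/-- Weights of the nonzero entries of `X_r` (`k = 1`) and `Y_r` (`k = 2`). -/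
theorem weight_of_bit {k : ℤ} {r m : ℕ} {i j : chevF4.Idx} (hr : r < 48) (h : chkw k r (pos j) m = true)
    (hb : m.testBit (pos i) = true) (c : Fin 4 → Kˣ) : chiIdx c i = chi c r ^ k * chiIdx c j := by
  have key : lin k (wgt (pos i)) (wgt (pos j)) (CA.getD (ng r) []) = true := by
    simp only [chkw, Bool.or_eq_true, Bool.and_eq_true, beq_iff_eq, decide_eq_true_eq] at h
    rcases h with (h | ⟨h, h'⟩) | ⟨⟨h, _⟩, h'⟩
    · rw [h, Nat.zero_testBit] at hb
      exact absurd hb (by simp)
    · have hi : pos i < 4 := by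
        by_contra hc
        have : m < 2 ^ (pos i) := lt_of_lt_of_le h (by
          calc (16 : ℕ) = 2 ^ 4 := by norm_num
            _ ≤ 2 ^ (pos i) := Nat.pow_le_pow_right (by norm_num) (by omega))
        rw [Nat.testBit_lt_two_pow this] at hb
        exact absurd hb (by simp)
      have : wgt (pos i) = [0, 0, 0, 0] := if_pos hi
      rw [this]
      exact h'
    · rw [h, Nat.testBit_two_pow] at hb
      have e : Nat.log2 m = pos i := of_decide_eq_true hb
      rw [← e]
      exact h'
  have h1 := chiL_lin key c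
  rw [chiL_CA, chi_ng c hr] at h1
  unfold chiIdx
  rw [h1, inv_zpow', neg_neg, mul_comm]

variable [CharP K 2]

theorem T_mul_X (c : Fin 4 → Kˣ) {r : ℕ} (hr : r < 48) (t : K) : T c * X r t = X r (chi c r * t) * T c := by
  apply Units.ext
  rw [Units.val_mul, Units.val_mul, coe_T, coe_X, coe_X]
  ext i j
  rw [Matrix.diagonal_mul, Matrix.mul_diagonal, x_entry hr, x_entry hr]
  have h := all_of chk6_all hr
  simp only [chk6, Bool.and_eq_true, List.all_eq_true] at h
  have h6 := h (pos j) (List.mem_range.2 (pos_lt j))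
  have e0 : (chiIdx c i : K) * (if i = j then 1 else 0) = (if i = j then 1 else 0) * (chiIdx c j : K) := by
    by_cases hij : i = j
    · subst hij; simp
    · simp [hij]
  have e1 : (chiIdx c i : K) * b2 K ((xc r (pos j)).testBit (pos i)) =
      (chi c r : K) * (chiIdx c j : K) * b2 K ((xc r (pos j)).testBit (pos i)) := by
    cases hb : (xc r (pos j)).testBit (pos i)
    · rw [b2_false, mul_zero, mul_zero]
    · rw [weight_of_bit hr h6.1 hb c, zpow_one, Units.val_mul]
  have e2 : (chiIdx c i : K) * b2 K ((yc r (pos j)).testBit (pos i)) =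
      (chi c r : K) ^ 2 * (chiIdx c j : K) * b2 K ((yc r (pos j)).testBit (pos i)) := by
    cases hb : (yc r (pos j)).testBit (pos i)
    · rw [b2_false, mul_zero, mul_zero]
    · rw [weight_of_bit hr h6.2 hb c, Units.val_mul]
      norm_cast
  linear_combination e0 + t * e1 + t ^ 2 * e2

theorem T_conj_X (c : Fin 4 → Kˣ) {r : ℕ} (hr : r < 48) (t : K) :
    T c * X r t * (T c)⁻¹ = X r (chi c r * t) := by
  rw [T_mul_X c hr, mul_inv_cancel_right]

/-! ### the matrices of the elements `n_r(1)` -/

theorem x1_len {r : ℕ} (hr : r < 48) : (x1 r).length = 52 := by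
  unfold x1 addL
  rw [List.length_zipWith, List.length_zipWith, len_XT hr, len_YT hr]
  rfl

theorem coe_X_one {r : ℕ} (hr : r < 48) : chevF4.x K r 1 = toM K (x1 r) := by
  have h1 : oneL.length = (XT.getD r []).length := by rw [len_XT hr]; rfl
  have h2 : (addL oneL (XT.getD r [])).length = (YT.getD r []).length := by
    unfold addL
    rw [List.length_zipWith, len_XT hr, len_YT hr]; rfl
  rw [x_eq hr, one_smul, one_pow, one_smul]
  unfold x1
  rw [toM_add K _ _ h2, toM_add K _ _ h1, toM_one]
  rfl

theorem coe_nG {r : ℕ} (hr : r < 48) :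
    ((nG K r : GL chevF4.Idx K) : Matrix chevF4.Idx chevF4.Idx K) = toM K (NT r) := by
  have hn : 47 - r < 48 := by omega
  unfold nG
  rw [Units.val_mul, Units.val_mul, coe_X, coe_X, coe_X_one hr, coe_X_one hn, NT_eq hr, ng_eq_sub hr]
  rw [toM_mul K _ _ (by unfold mulL; rw [List.length_map, x1_len hn]),
    toM_mul K _ _ (by rw [x1_len hr])]

theorem NT_getD {r j : ℕ} (hj : j < 52) : (NT r).getD j 0 = nt r j := by
  unfold NT
  rw [List.getD_eq_getElem _ _ (by simpa using hj)]
  simp

theorem nG_inr {r : ℕ} (hr : r < 48) (i : chevF4.Idx) (s : Fin chevF4.nroots) :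
    ((nG K r : GL chevF4.Idx K) : Matrix chevF4.Idx chevF4.Idx K) i (Sum.inr s) =
      if pos i = 4 + wt r s.val then 1 else 0 := by
  rw [coe_nG hr, toM_apply, NT_getD (pos_lt _), pos_inr]
  have h1 : nt r (4 + s.val) = 2 ^ (4 + wt r s.val) := by
    unfold nt
    rw [if_neg (by omega), Nat.add_sub_cancel_left]
  rw [h1, Nat.testBit_two_pow]
  by_cases h : 4 + wt r s.val = pos i
  · rw [if_pos h.symm, decide_eq_true h, b2_true]
  · rw [if_neg (fun e => h e.symm), decide_eq_false h, b2_false]

theorem nt_lt {r j : ℕ} (hr : r < 48) (hj : j < 4) : nt r j < 16 := by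
  unfold nt
  rw [if_pos hj]
  have h1 : (2 : ℕ) ^ j < 2 ^ 4 := Nat.pow_lt_pow_right (by norm_num) hj
  have h2 : (if ca j r % 2 = 0 then 0 else cm r) < 2 ^ 4 := by
    split_ifs
    · norm_num
    · exact cm_lt hr
  exact Nat.xor_lt_two_pow h1 h2

theorem nG_inl_inr {r : ℕ} (hr : r < 48) (u : Fin chevF4.nroots) (l : Fin chevF4.rank) :
    ((nG K r : GL chevF4.Idx K) : Matrix chevF4.Idx chevF4.Idx K) (Sum.inr u) (Sum.inl l) = 0 := by
  rw [coe_nG hr, toM_apply, NT_getD (pos_lt _), pos_inr, pos_inl]
  have h1 := nt_lt hr (show l.val < 4 from l.2)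
  have h2 : nt r l.val < 2 ^ (4 + u.val) := lt_of_lt_of_le h1 (by
    calc (16 : ℕ) = 2 ^ 4 := by norm_num
      _ ≤ 2 ^ (4 + u.val) := Nat.pow_le_pow_right (by norm_num) (by omega))
  rw [Nat.testBit_lt_two_pow h2, b2_false]

theorem co_cast {s l : ℕ} (hs : s < 48) (hl : l < 4) : ((co s l : ℤ) : K) = b2 K ((cm s).testBit l) := by
  rw [cm_testBit hl hs, int_cast_eq]
  by_cases h : co s l % 2 = 0
  · rw [if_pos h, decide_eq_true h]; rfl
  · rw [if_neg h, decide_eq_false h]; rfl

/-- `n_r(1)` maps the coroot `h_s` to `h_{w_r(s)}` (mod 2). -/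
theorem nG_cor {r : ℕ} (hr : r < 48) {s : ℕ} (hs : s < 48) (m : Fin chevF4.rank) :
    ∑ l : Fin chevF4.rank, ((nG K r : GL chevF4.Idx K) : Matrix chevF4.Idx chevF4.Idx K) (Sum.inl m) (Sum.inl l) *
      ((co s l.val : ℤ) : K) = ((co (wt r s) m.val : ℤ) : K) := by
  have hm : m.val < 4 := m.2
  rw [co_cast (wt_lt hr hs) hm, ← sel_cm hr hs, testBit_sel]
  have hl : ((NT r).take 4).length = 4 := by
    rw [List.length_take]
    unfold NT
    rw [List.length_map, List.length_range]; rfl
  rw [hl, ← Fin.sum_univ_eq_sum_range (fun k => b2 K ((((NT r).take 4).getD k 0).testBit m.val) * b2 K ((cm s).testBit k)) 4]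
  refine Finset.sum_congr rfl fun l _ => ?_
  have hl4 : l.val < 4 := l.2
  rw [coe_nG hr, toM_apply, co_cast hs hl4, pos_inl, pos_inl]
  congr 3
  rw [List.getD_eq_getElem?_getD, List.getD_eq_getElem?_getD, List.getElem?_take, if_pos hl4]

/-! ### `n_r(1)` normalises the torus -/

/-- The transformation of torus coordinates by the reflection in `r`. -/
def tw (r : ℕ) (c : Fin 4 → Kˣ) : Fin 4 → Kˣ := fun l => c l * (chi c r) ^ (-co r l.val)

omit [CharP K 2] in
theorem prod_pow_aux (a : Kˣ) (x y z w x' y' z' w' : ℤ) :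
    (a ^ (-x)) ^ x' * (a ^ (-y)) ^ y' * (a ^ (-z)) ^ z' * (a ^ (-w)) ^ w' =
      a ^ (-(x * x' + y * y' + z * z' + w * w')) := by
  rw [← zpow_mul, ← zpow_mul, ← zpow_mul, ← zpow_mul, ← zpow_add, ← zpow_add, ← zpow_add]
  congr 1
  ring

omit [CharP K 2] in
theorem chi_tw {r s : ℕ} (hr : r < 48) (hs : s < 48) (c : Fin 4 → Kˣ) :
    chi (tw r c) s = chi c s * (chi c r) ^ (-ct r s) := by
  rw [ct_eq hr hs, ← prod_pow_aux]
  conv_lhs => rw [chi_def]
  simp only [tw, mul_zpow]
  conv_rhs => rw [chi_def c s]
  show _ * (chi c r ^ (-co r 0)) ^ ca 0 s * (_ * (chi c r ^ (-co r 1)) ^ ca 1 s) *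
    (_ * (chi c r ^ (-co r 2)) ^ ca 2 s) * (_ * (chi c r ^ (-co r 3)) ^ ca 3 s) = _
  ac_rfl

omit [CharP K 2] in
theorem chi_wt {r s : ℕ} (hr : r < 48) (hs : s < 48) (c : Fin 4 → Kˣ) :
    chi c (wt r s) = chi c s * (chi c r) ^ (-ct r s) := by
  have h' : ∀ l, ca l (wt r s) = ca l s + ca l r * (-ct r s) := fun l => by
    rw [ca_wt hr hs]; ring
  conv_lhs => rw [chi_def]
  simp only [h', zpow_add, zpow_mul]
  conv_rhs => rw [chi_def c s, chi_def c r]
  simp only [mul_zpow]
  ac_rfl

omit [CharP K 2] in
theorem chi_tw_eq {r s : ℕ} (hr : r < 48) (hs : s < 48) (c : Fin 4 → Kˣ) :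
    chi (tw r c) s = chi c (wt r s) := by rw [chi_tw hr hs, chi_wt hr hs]

theorem nG_mul_T {r : ℕ} (hr : r < 48) (c : Fin 4 → Kˣ) : nG K r * T c = T (tw r c) * nG K r := by
  apply Units.ext
  rw [Units.val_mul, Units.val_mul, coe_T, coe_T]
  ext i j
  rw [Matrix.mul_diagonal, Matrix.diagonal_mul]
  rcases j with l | s
  · rw [chiIdx_inl, Units.val_one, mul_one]
    rcases i with m | u
    · rw [chiIdx_inl, Units.val_one, one_mul]
    · rw [nG_inl_inr hr, mul_zero]
  · rw [nG_inr hr]
    by_cases h : pos i = 4 + wt r s.val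
    · rw [if_pos h, one_mul, mul_one]
      rcases i with m | u
      · rw [pos_inl] at h
        have : m.val < 4 := m.2
        omega
      · rw [pos_inr] at h
        have hu : u.val = wt r s.val := by omega
        rw [chiIdx_inr, chiIdx_inr, hu, chi_tw_eq hr (wt_lt hr s.2), wt_wt hr s.2]
    · rw [if_neg h, zero_mul, mul_zero]

theorem nG_conj_T {r : ℕ} (hr : r < 48) (c : Fin 4 → Kˣ) : nG K r * T c * (nG K r)⁻¹ = T (tw r c) := by
  rw [nG_mul_T hr, mul_inv_cancel_right]

theorem nG_mul_self' (r : ℕ) : nG K r * nG K r = 1 := by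
  unfold nG
  calc X r 1 * X (47 - r) 1 * X r 1 * (X r 1 * X (47 - r) 1 * X r (1 : K))
      = X r 1 * X (47 - r) 1 * (X r 1 * X r 1) * X (47 - r) 1 * X r (1 : K) := by group
    _ = X r 1 * (X (47 - r) 1 * X (47 - r) 1) * X r (1 : K) := by rw [X_mul_self]; group
    _ = 1 := by rw [X_mul_self, mul_one, X_mul_self]

theorem nG_inv' (r : ℕ) : (nG K r)⁻¹ = nG K r := by rw [inv_eq_iff_mul_eq_one, nG_mul_self']

/-! ### the elements `h_r(t)` and the diagonal subgroup -/

/-- torus coordinates of `h_r(t)` -/
def hc (r : ℕ) (t : Kˣ) : Fin 4 → Kˣ := fun l => t ^ (co r l.val)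

omit [CharP K 2] in
theorem exists_chi_eq {r : ℕ} (hr : r < 48) (t : Kˣ) : ∃ c : Fin 4 → Kˣ, chi c r = t := by
  refine ⟨fun l => t ^ (mt r l.val), ?_⟩
  rw [chi_def]
  show (t ^ mt r 0) ^ ca 0 r * (t ^ mt r 1) ^ ca 1 r * (t ^ mt r 2) ^ ca 2 r * (t ^ mt r 3) ^ ca 3 r = t
  rw [← zpow_mul, ← zpow_mul, ← zpow_mul, ← zpow_mul, ← zpow_add, ← zpow_add, ← zpow_add, mt_sum hr, zpow_one]

/-- `h_r(t)` as an element of `GL`. -/
theorem hMat_eq {r : ℕ} (hr : r < 48) (t : Kˣ) :
    chevF4.hMat K r (t : K) = ((T (hc r t) : GL chevF4.Idx K) : Matrix chevF4.Idx chevF4.Idx K) := by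
  obtain ⟨c, hc'⟩ := exists_chi_eq hr t
  have hn : 47 - r < 48 := by omega
  have hneg : chevF4.neg r = 47 - r := by rw [ng_eq hr, ng_eq_sub hr]
  have e1 : T c * nG K r * (T c)⁻¹ = X r (t : K) * X (47 - r) ((t : K)⁻¹) * X r (t : K) := by
    have h1 := T_conj_X (K := K) c hr 1
    have h2 := T_conj_X (K := K) c hn 1
    have h3 : chi c (47 - r) = t⁻¹ := by rw [← ng_eq_sub hr, chi_ng c hr, hc']
    rw [hc', mul_one] at h1
    rw [h3, mul_one, Units.val_inv_eq_inv_val] at h2
    unfold nG
    rw [← h1, ← h2]
    group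
  have e2 : chevF4.hMat K r (t : K) = ((T c * nG K r * (T c)⁻¹ * nG K r : GL chevF4.Idx K) :
      Matrix chevF4.Idx chevF4.Idx K) := by
    rw [e1]
    unfold nG
    have h1 : (-(-1 : K)⁻¹) = 1 := by rw [inv_neg, inv_one, neg_neg]
    have h2 : (-1 : K) = 1 := CharTwo.neg_eq 1
    have h3 : -(t : K)⁻¹ = (t : K)⁻¹ := CharTwo.neg_eq _
    show chevF4.wordMat K ([(r, (t : K)), (chevF4.neg r, -(t : K)⁻¹), (r, (t : K))] ++
      [(r, (-1 : K)), (chevF4.neg r, -(-1 : K)⁻¹), (r, (-1 : K))]) = _
    rw [h1, h2, h3, hneg, ← coe_W]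
    congr 1
    simp [W_cons, W_nil, mul_assoc]
  have e3 : T c * nG K r * (T c)⁻¹ * nG K r = T (c * tw r c⁻¹) := by
    have h := nG_conj_T (K := K) hr c⁻¹
    rw [nG_inv', map_inv] at h
    rw [map_mul, ← h]
    group
  rw [e2, e3]
  congr 2
  funext l
  show c l * (c⁻¹ l * (chi c⁻¹ r) ^ (-co r l.val)) = t ^ co r l.val
  rw [chi_inv, hc', Pi.inv_apply, mul_inv_cancel_left, inv_zpow', neg_neg]

omit [CharP K 2] in
theorem single_mul_prod (c : Fin 4 → Kˣ) :
    c = hc 33 (c 0) * hc 27 (c 1) * hc 25 (c 2) * hc 24 (c 3) := by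
  funext l
  show c l = (c 0) ^ co 33 l.val * (c 1) ^ co 27 l.val * (c 2) ^ co 25 l.val * (c 3) ^ co 24 l.val
  fin_cases l <;> simp [co, CO]

/-- The diagonal subgroup is the range of `T`. -/
theorem diagonal_eq_range : chevF4.diagonalSubgroup K = (T : (Fin 4 → Kˣ) →* GL chevF4.Idx K).range := by
  apply le_antisymm
  · unfold ChevalleyDatum.diagonalSubgroup
    rw [Subgroup.closure_le]
    rintro g ⟨r, t, hr, ht, hg⟩
    have hr' : r < 48 := hr
    refine ⟨hc r (Units.mk0 t ht), ?_⟩
    apply Units.ext
    rw [← hMat_eq hr', hg]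
    rfl
  · rintro _ ⟨c, rfl⟩
    have key : ∀ r, r < 48 → ∀ t : Kˣ, T (hc r t) ∈ chevF4.diagonalSubgroup K := by
      intro r hr t
      exact Subgroup.subset_closure ⟨r, t, hr, t.ne_zero, (hMat_eq hr t).symm⟩
    rw [single_mul_prod c, map_mul, map_mul, map_mul]
    exact mul_mem (mul_mem (mul_mem (key 33 (by omega) _) (key 27 (by omega) _)) (key 25 (by omega) _))
      (key 24 (by omega) _)

/-- `n_r(1)` as a matrix of the datum. -/
theorem nMat_eq {r : ℕ} (hr : r < 48) :
    chevF4.nMat K r 1 = ((nG K r : GL chevF4.Idx K) : Matrix chevF4.Idx chevF4.Idx K) := by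
  have hneg : chevF4.neg r = 47 - r := by rw [ng_eq hr, ng_eq_sub hr]
  have h1 : (-(1 : K)⁻¹) = 1 := by rw [inv_one]; exact CharTwo.neg_eq 1
  show chevF4.wordMat K [(r, (1 : K)), (chevF4.neg r, -(1 : K)⁻¹), (r, (1 : K))] = _
  rw [h1, hneg, ← coe_W]
  congr 1
  simp [W_cons, W_nil, mul_assoc, nG]

theorem unimod {G : Type*} [CommGroup G] (a b c d : G) (h1 : a ^ 2 = b) (h2 : b ^ 2 = a * c)
    (h3 : c ^ 2 = b ^ 2 * d) (h4 : d ^ 2 = c) : a = 1 ∧ b = 1 ∧ c = 1 ∧ d = 1 := by
  subst h1 h4
  have e1 : a ^ 3 = d ^ 2 := by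
    have : a * a ^ 3 = a * d ^ 2 := by rw [← h2]; group
    exact mul_left_cancel this
  have e2 : d ^ 3 = a ^ 4 := by
    have : d * d ^ 3 = d * a ^ 4 := by
      calc d * d ^ 3 = (d ^ 2) ^ 2 := by group
        _ = (a ^ 2) ^ 2 * d := h3
        _ = d * a ^ 4 := by rw [mul_comm]; group
    exact mul_left_cancel this
  have e3 : a = 1 := by
    have h9 : a ^ 9 = a ^ 8 := by
      calc a ^ 9 = (a ^ 3) ^ 3 := by group
        _ = (d ^ 3) ^ 2 := by rw [e1]; group
        _ = a ^ 8 := by rw [e2]; group
    have : a ^ 8 * a = a ^ 8 * 1 := by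
      calc a ^ 8 * a = a ^ 9 := by group
        _ = a ^ 8 := h9
        _ = a ^ 8 * 1 := (mul_one _).symm
    exact mul_left_cancel this
  subst e3
  have e4 : d = 1 := by
    have h2' : d ^ 2 = 1 := by rw [← e1, one_pow]
    have h3' : d ^ 3 = 1 := by rw [e2, one_pow]
    calc d = d ^ 3 * (d ^ 2)⁻¹ := by group
      _ = 1 := by rw [h3', h2', inv_one, mul_one]
  subst e4
  simp

theorem tab33 : ca 0 33 = 2 ∧ ca 1 33 = -1 ∧ ca 2 33 = 0 ∧ ca 3 33 = 0 := by decide
theorem tab27 : ca 0 27 = -1 ∧ ca 1 27 = 2 ∧ ca 2 27 = -1 ∧ ca 3 27 = 0 := by decide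
theorem tab25 : ca 0 25 = 0 ∧ ca 1 25 = -2 ∧ ca 2 25 = 2 ∧ ca 3 25 = -1 := by decide
theorem tab24 : ca 0 24 = 0 ∧ ca 1 24 = 0 ∧ ca 2 24 = -1 ∧ ca 3 24 = 2 := by decide

omit [CharP K 2] in
theorem chi33 (c : Fin 4 → Kˣ) : chi c 33 = (c 0) ^ 2 * (c 1)⁻¹ := by
  rw [chi_def, tab33.1, tab33.2.1, tab33.2.2.1, tab33.2.2.2]
  simp

omit [CharP K 2] in
theorem chi27 (c : Fin 4 → Kˣ) : chi c 27 = (c 0)⁻¹ * (c 1) ^ 2 * (c 2)⁻¹ := by
  rw [chi_def, tab27.1, tab27.2.1, tab27.2.2.1, tab27.2.2.2]
  simp

omit [CharP K 2] in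
theorem chi25 (c : Fin 4 → Kˣ) : chi c 25 = ((c 1) ^ 2)⁻¹ * (c 2) ^ 2 * (c 3)⁻¹ := by
  rw [chi_def, tab25.1, tab25.2.1, tab25.2.2.1, tab25.2.2.2]
  simp

omit [CharP K 2] in
theorem chi24 (c : Fin 4 → Kˣ) : chi c 24 = (c 2)⁻¹ * (c 3) ^ 2 := by
  rw [chi_def, tab24.1, tab24.2.1, tab24.2.2.1, tab24.2.2.2]
  simp

omit [CharP K 2] in
/-- The four values on the fundamental roots determine the torus coordinates. -/
theorem eq_one_of_chi {c : Fin 4 → Kˣ} (h1 : chi c 33 = 1) (h2 : chi c 27 = 1) (h3 : chi c 25 = 1)
    (h4 : chi c 24 = 1) : c = 1 := by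
  rw [chi33] at h1
  rw [chi27] at h2
  rw [chi25] at h3
  rw [chi24] at h4
  have e1 : (c 0) ^ 2 = c 1 := by rwa [mul_inv_eq_one] at h1
  have e2 : (c 1) ^ 2 = c 0 * c 2 := by
    rw [mul_inv_eq_one, inv_mul_eq_iff_eq_mul] at h2
    exact h2
  have e3 : (c 2) ^ 2 = (c 1) ^ 2 * c 3 := by
    rw [mul_inv_eq_one, inv_mul_eq_iff_eq_mul] at h3
    exact h3
  have e4 : (c 3) ^ 2 = c 2 := by
    rw [inv_mul_eq_one] at h4
    exact h4.symm
  obtain ⟨f0, f1, f2, f3⟩ := unimod _ _ _ _ e1 e2 e3 e4
  funext l
  fin_cases l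
  · exact f0
  · exact f1
  · exact f2
  · exact f3

omit [CharP K 2] in
theorem T_injective : Function.Injective (T : (Fin 4 → Kˣ) →* GL chevF4.Idx K) := by
  rw [injective_iff_map_eq_one]
  intro c hc
  have key : ∀ s, s < 48 → chi c s = 1 := by
    intro s hs
    have h := T_inr c (⟨s, hs⟩ : Fin chevF4.nroots)
    rw [hc, Units.val_one, Matrix.one_apply_eq] at h
    exact Units.ext h.symm
  exact eq_one_of_chi (key 33 (by omega)) (key 27 (by omega)) (key 25 (by omega)) (key 24 (by omega))

end Cfsg.Agent.ChevalleyStructure.TwF4.Torus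
end
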